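import Mathlib
import Groth.Agent.RedTensor.Basic

/-! Tensor products of domains over algebraically closed fields and of irreducible algebras over
separably closed fields. -/

set_option autoImplicit false
universe u v w

open TensorProduct

noncomputable section

namespace Groth.Agent.GeomIrred

/-- Over an algebraically closed field a tensor product of domains is a domain. -/
theorem isDomain_tensor {k : Type u} [Field k] [IsAlgClosed k] {A : Type v} [CommRing A] [Algebra k A]
    {B : Type w} [CommRing B] [Algebra k B] [IsDomain A] [IsDomain B] : IsDomain (B ⊗[k] A) := by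
  classical
  haveI : Nontrivial (B ⊗[k] A) := by
    refine ⟨⟨1, 0, fun h => ?_⟩⟩
    have hinj := Algebra.TensorProduct.includeLeft_injective (S := k) (A := B) (B := A)
      (algebraMap k A).injective
    exact one_ne_zero (hinj (a₁ := 1) (a₂ := 0) (by simpa using h))
  refine @NoZeroDivisors.to_isDomain _ _ _ ⟨fun {z w} hzw => ?_⟩
  let b := Module.Free.chooseBasis k B
  let e : B ⊗[k] A ≃ₗ[k] _ := TensorProduct.equivFinsuppOfBasisLeft b
  let A₀ : Subalgebra k A := Algebra.adjoin k
    (↑((e z).support.image (e z) ∪ (e w).support.image (e w)) : Set A)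
  haveI : Algebra.FiniteType k A₀ :=
    (Subalgebra.fg_iff_finiteType A₀).1 (Subalgebra.fg_adjoin_finset _)
  let e₀ : B ⊗[k] A₀ ≃ₗ[k] _ := TensorProduct.equivFinsuppOfBasisLeft b
  let j : B ⊗[k] A₀ →ₐ[k] B ⊗[k] A := Algebra.TensorProduct.map (AlgHom.id k B) A₀.val
  have hj : Function.Injective j :=
    Module.Flat.lTensor_preserves_injective_linearMap (M := B) A₀.val.toLinearMap Subtype.val_injective
  have hje : ∀ y i, e (j y) i = (e₀ y i : A) := by
    intro y i
    induction y with
    | zero => simp
    | add p q hp hq => simp only [map_add, Finsupp.add_apply, hp, hq, Subalgebra.coe_add]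
    | tmul p q => simp [e, e₀, j]
  have hlift : ∀ y : B ⊗[k] A, (∀ i, e y i ∈ A₀) → ∃ y₀, j y₀ = y := by
    intro y hy
    refine ⟨e₀.symm (Finsupp.onFinset (e y).support (fun i => (⟨e y i, hy i⟩ : A₀))
      fun i hi => ?_), e.injective (Finsupp.ext fun i => ?_)⟩
    · rw [Finsupp.mem_support_iff]
      exact fun h => hi (Subtype.ext h)
    · rw [hje, LinearEquiv.apply_symm_apply]
      simp
  have hmem : ∀ y : B ⊗[k] A, (∀ i, e y i ∈ (↑((e z).support.image (e z) ∪ (e w).support.image (e w)) : Set A) ∨ e y i = 0) →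
      ∀ i, e y i ∈ A₀ := by
    intro y hy i
    rcases hy i with h | h
    · exact Algebra.subset_adjoin h
    · rw [h]; exact zero_mem _
  obtain ⟨z₀, hz₀⟩ := hlift z (hmem z fun i => by
    by_cases h : e z i = 0
    · exact .inr h
    · exact .inl (by simp only [Finset.coe_union, Set.mem_union, Finset.mem_coe, Finset.mem_image]
                     exact .inl ⟨i, Finsupp.mem_support_iff.mpr h, rfl⟩))
  obtain ⟨w₀, hw₀⟩ := hlift w (hmem w fun i => by
    by_cases h : e w i = 0
    · exact .inr h
    · exact .inl (by simp only [Finset.coe_union, Set.mem_union, Finset.mem_coe, Finset.mem_image]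
                     exact .inr ⟨i, Finsupp.mem_support_iff.mpr h, rfl⟩))
  rw [← hz₀, ← hw₀]
  have h0 : z₀ * w₀ = 0 := hj (by rw [map_mul, map_zero, hz₀, hw₀]; exact hzw)
  haveI : IsReduced A₀ := isReduced_of_injective A₀.val Subtype.val_injective
  have key : ∀ i i', e₀ z₀ i * e₀ w₀ i' = 0 := by
    intro i i'
    by_contra hne
    obtain ⟨g, hg⟩ := RedTensor.exists_algHom_ne_zero (k := k) hne
    let G : B ⊗[k] A₀ →ₐ[k] B :=
      (Algebra.TensorProduct.rid k k B).toAlgHom.comp (Algebra.TensorProduct.map (AlgHom.id k B) g)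
    have hG : ∀ y l, b.repr (G y) l = g (e₀ y l) := by
      intro y l
      induction y with
      | zero => simp
      | add p q hp hq => simp only [map_add, Finsupp.add_apply, hp, hq]
      | tmul p q => simp [G, e₀, mul_comm]
    refine hg ?_
    rw [map_mul, ← hG, ← hG]
    rcases mul_eq_zero.mp (show G z₀ * G w₀ = 0 by rw [← map_mul, h0, map_zero]) with h | h <;> simp [h]
  by_cases hz : z₀ = 0
  · exact .inl (by rw [hz, map_zero])
  right
  obtain ⟨i, hi⟩ : ∃ i, e₀ z₀ i ≠ 0 := by
    by_contra hall
    push Not at hall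
    exact hz (e₀.injective (Finsupp.ext fun i => by rw [hall i, map_zero, Finsupp.zero_apply]))
  have : w₀ = 0 := e₀.injective (Finsupp.ext fun i' => by
    rw [map_zero, Finsupp.zero_apply]
    exact (mul_eq_zero.mp (key i i')).resolve_left hi)
  rw [this, map_zero]

/-- Over an algebraically closed field a tensor product of irreducible algebras is irreducible. -/
theorem irreducibleSpace_tensor_of_isAlgClosed {k : Type u} [Field k] [IsAlgClosed k] {A : Type v}
    [CommRing A] [Algebra k A] {B : Type w} [CommRing B] [Algebra k B]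
    [IrreducibleSpace (PrimeSpectrum A)] [IrreducibleSpace (PrimeSpectrum B)] :
    IrreducibleSpace (PrimeSpectrum (B ⊗[k] A)) := by
  haveI hA : (nilradical A).IsPrime := PrimeSpectrum.irreducibleSpace_iff_isPrime_nilradical.mp ‹_›
  haveI hB : (nilradical B).IsPrime := PrimeSpectrum.irreducibleSpace_iff_isPrime_nilradical.mp ‹_›
  haveI : IsDomain (A ⧸ nilradical A) := Ideal.Quotient.isDomain _
  haveI : IsDomain (B ⧸ nilradical B) := Ideal.Quotient.isDomain _
  haveI := isDomain_tensor (k := k) (A := A ⧸ nilradical A) (B := B ⧸ nilradical B)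
  let q := Algebra.TensorProduct.map (Ideal.Quotient.mkₐ k (nilradical B)) (Ideal.Quotient.mkₐ k (nilradical A))
  rw [PrimeSpectrum.irreducibleSpace_iff_isPrime_nilradical]
  have hker : RingHom.ker q ≤ nilradical (B ⊗[k] A) := by
    rw [Algebra.TensorProduct.map_ker _ _ (Ideal.Quotient.mkₐ_surjective _ _) (Ideal.Quotient.mkₐ_surjective _ _)]
    refine sup_le (Ideal.map_le_iff_le_comap.mpr fun x hx => ?_) (Ideal.map_le_iff_le_comap.mpr fun x hx => ?_) <;>
      exact mem_nilradical.mpr ((mem_nilradical.mp (Ideal.Quotient.eq_zero_iff_mem.mp (RingHom.mem_ker.mp hx))).map _)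
  have : nilradical (B ⊗[k] A) = RingHom.ker q := le_antisymm (fun x hx => by
    rw [RingHom.mem_ker]; exact ((mem_nilradical.mp hx).map q).eq_zero) hker
  rw [this]
  exact RingHom.ker_isPrime _

/-- Irreducibility of an algebra over a separably closed field persists over the algebraic closure. -/
theorem irreducibleSpace_tensor_algebraicClosure_iff {k : Type u} [Field k] [IsSepClosed k]
    {R : Type u} [CommRing R] [Algebra k R] :
    IrreducibleSpace (PrimeSpectrum (R ⊗[k] AlgebraicClosure k)) ↔ IrreducibleSpace (PrimeSpectrum R) :=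
  (PrimeSpectrum.isHomeomorph_comap_of_isPurelyInseparable k (AlgebraicClosure k) R).homeomorph.irreducibleSpace_iff

/-- Over a separably closed field a tensor product of irreducible algebras is irreducible. -/
theorem irreducibleSpace_tensor {k : Type u} [Field k] [IsSepClosed k] {A : Type u}
    [CommRing A] [Algebra k A] {B : Type u} [CommRing B] [Algebra k B]
    [hA : IrreducibleSpace (PrimeSpectrum A)] [hB : IrreducibleSpace (PrimeSpectrum B)] :
    IrreducibleSpace (PrimeSpectrum (B ⊗[k] A)) := by
  let K := AlgebraicClosure k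
  let eA : K ⊗[k] A ≃+* A ⊗[k] K := (Algebra.TensorProduct.comm k K A).toRingEquiv
  let eB : K ⊗[k] B ≃+* B ⊗[k] K := (Algebra.TensorProduct.comm k K B).toRingEquiv
  haveI := (irreducibleSpace_tensor_algebraicClosure_iff (k := k) (R := A)).mpr hA
  haveI := (irreducibleSpace_tensor_algebraicClosure_iff (k := k) (R := B)).mpr hB
  haveI : IrreducibleSpace (PrimeSpectrum (K ⊗[k] A)) :=
    (PrimeSpectrum.homeomorphOfRingEquiv eA).irreducibleSpace_iff.mpr ‹_›
  haveI : IrreducibleSpace (PrimeSpectrum (K ⊗[k] B)) :=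
    (PrimeSpectrum.homeomorphOfRingEquiv eB).irreducibleSpace_iff.mpr ‹_›
  haveI := irreducibleSpace_tensor_of_isAlgClosed (k := K) (A := K ⊗[k] A) (B := K ⊗[k] B)
  rw [← irreducibleSpace_tensor_algebraicClosure_iff (k := k) (R := B ⊗[k] A)]
  let e : (K ⊗[k] B) ⊗[K] (K ⊗[k] A) ≃+* (B ⊗[k] A) ⊗[k] K :=
    (Algebra.TensorProduct.cancelBaseChange k K K (K ⊗[k] B) A).toRingEquiv.trans
      ((Algebra.TensorProduct.assoc k k k K B A).trans (Algebra.TensorProduct.comm k K (B ⊗[k] A))).toRingEquiv
  exact (PrimeSpectrum.homeomorphOfRingEquiv e).irreducibleSpace_iff.mp ‹_›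

end Groth.Agent.GeomIrred
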