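import Mathlib
import Groth.Agent.GeomIrred.Basic

/-! Schemes over separably closed fields, and descent of geometric irreducibility and connectedness
along surjections. -/

set_option autoImplicit false
universe u

open CategoryTheory CategoryTheory.Limits AlgebraicGeometry TensorProduct

noncomputable section

namespace Groth.Agent.GeomIrred

theorem geometricallyConnected_of_geometricallyIrreducible {X Y : Scheme.{u}} (f : X ⟶ Y)
    [hf : GeometricallyIrreducible f] : GeometricallyConnected f := by
  refine ⟨fun K _ y Z fst snd h => ?_⟩
  haveI : IrreducibleSpace Z := hf.geometrically_irreducibleSpace y fst snd h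
  infer_instance

/-- An extension of a separably closed field is geometrically irreducible. -/
theorem geometricallyIrreducible_field {k : Type u} [Field k] [IsSepClosed k] (L : Type u) [Field L] [Algebra k L] :
    GeometricallyIrreducible (Spec.map (CommRingCat.ofHom (algebraMap k L))) := by
  refine ⟨(geometrically_iff_of_commRing_of_isClosedUnderIsomorphisms
    (P := (IrreducibleSpace ·))).mpr fun K _ _ => ?_⟩
  haveI : IrreducibleSpace (PrimeSpectrum (L ⊗[k] K)) := irreducibleSpace_tensor
  exact (pullbackSpecIso k L K).hom.homeomorph.irreducibleSpace_iff.mpr ‹_›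

/-- An irreducible scheme over a separably closed field is geometrically irreducible. -/
theorem geometricallyIrreducible_of_irreducibleSpace {k : Type u} [Field k] [IsSepClosed k] {X : Scheme.{u}}
    (f : X ⟶ Spec (CommRingCat.of k)) [IrreducibleSpace X] : GeometricallyIrreducible f := by
  refine ⟨(geometrically_iff_of_commRing_of_isClosedUnderIsomorphisms
    (P := (IrreducibleSpace ·))).mpr fun K _ _ => ?_⟩
  haveI := geometricallyIrreducible_field (k := k) K
  infer_instance

/-- A connected scheme over a separably closed field is geometrically connected. -/
theorem geometricallyConnected_of_connectedSpace {k : Type u} [Field k] [IsSepClosed k] {X : Scheme.{u}}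
    (f : X ⟶ Spec (CommRingCat.of k)) [ConnectedSpace X] : GeometricallyConnected f := by
  refine ⟨(geometrically_iff_of_commRing_of_isClosedUnderIsomorphisms
    (P := (ConnectedSpace ·))).mpr fun K _ _ => ?_⟩
  haveI := geometricallyIrreducible_field (k := k) K
  haveI := geometricallyConnected_of_geometricallyIrreducible (Spec.map (CommRingCat.ofHom (algebraMap k K)))
  infer_instance

/-- Geometric properties stable under surjective images descend along surjections. -/
theorem geometrically_of_surjective {P : ObjectProperty Scheme.{u}} [P.IsClosedUnderIsomorphisms]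
    (hP : ∀ ⦃W Z : Scheme.{u}⦄ (p : W ⟶ Z), Function.Surjective p → P W → P Z)
    {X Y Y' : Scheme.{u}} (f : X ⟶ Y) (g : Y' ⟶ Y) [Surjective g]
    (h : geometrically P (pullback.snd f g)) : geometrically P f := by
  rw [geometrically_iff_of_isClosedUnderIsomorphisms]
  intro L _ y
  obtain ⟨w, -⟩ := (inferInstance : Surjective (pullback.fst y g)).surj (IsLocalRing.closedPoint L)
  let W := pullback y g
  let p : Spec (W.residueField w) ⟶ W := W.fromSpecResidueField w
  let a := p ≫ pullback.fst y g
  let b := p ≫ pullback.snd y g
  have hab : a ≫ y = b ≫ g := by simp only [a, b, Category.assoc, pullback.condition]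
  haveI : Surjective a := ⟨fun z => ⟨IsLocalRing.closedPoint _, Subsingleton.elim (α := PrimeSpectrum L) _ _⟩⟩
  have hW : P (pullback f (a ≫ y)) := by
    rw [hab]
    exact P.prop_of_iso (pullbackLeftPullbackSndIso f g b)
      (pullback_of_geometrically h (W.residueField w) b)
  let q : pullback f (a ≫ y) ⟶ pullback f y := (pullbackLeftPullbackSndIso f y a).inv ≫ pullback.fst _ _
  exact hP q q.surjective hW

theorem geometricallyIrreducible_of_surjective {X Y Y' : Scheme.{u}} (f : X ⟶ Y) (g : Y' ⟶ Y) [Surjective g]
    [hf : GeometricallyIrreducible (pullback.snd f g)] : GeometricallyIrreducible f := by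
  refine ⟨geometrically_of_surjective (P := (IrreducibleSpace ·)) (fun W Z p hp hW => ?_) f g
    hf.geometrically_irreducibleSpace⟩
  rw [irreducibleSpace_def, Set.top_eq_univ, ← Set.range_eq_univ.mpr hp, ← Set.image_univ]
  exact (IrreducibleSpace.isIrreducible_univ W).image _ p.continuous.continuousOn

theorem connectedSpace_of_surjective {W Z : Scheme.{u}} (p : W ⟶ Z) (hp : Function.Surjective p)
    (hW : ConnectedSpace W) : ConnectedSpace Z :=
  hp.connectedSpace p.continuous

theorem geometricallyConnected_of_surjective {X Y Y' : Scheme.{u}} (f : X ⟶ Y) (g : Y' ⟶ Y) [Surjective g]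
    [hf : GeometricallyConnected (pullback.snd f g)] : GeometricallyConnected f :=
  ⟨geometrically_of_surjective (P := (ConnectedSpace ·))
    (fun _ _ p hp hW => connectedSpace_of_surjective p hp hW) f g hf.geometrically_connectedSpace⟩

theorem surjective_specMap_field (k K : Type u) [Field k] [Field K] [Algebra k K] :
    Surjective (Spec.map (CommRingCat.ofHom (algebraMap k K))) :=
  ⟨fun _ => ⟨IsLocalRing.closedPoint K, Subsingleton.elim (α := PrimeSpectrum k) _ _⟩⟩

/-- Irreducibility over a separably closed extension gives geometric irreducibility. -/
theorem geometricallyIrreducible_of_irreducible_pullback {k : Type u} [Field k] {X : Scheme.{u}}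
    (f : X ⟶ Spec (CommRingCat.of k)) (K : Type u) [Field K] [Algebra k K] [IsSepClosed K]
    [IrreducibleSpace ↥(pullback f (Spec.map (CommRingCat.ofHom (algebraMap k K))))] : GeometricallyIrreducible f := by
  haveI := surjective_specMap_field k K
  haveI := geometricallyIrreducible_of_irreducibleSpace (k := K)
    (pullback.snd f (Spec.map (CommRingCat.ofHom (algebraMap k K))))
  exact geometricallyIrreducible_of_surjective f (Spec.map (CommRingCat.ofHom (algebraMap k K)))

/-- Connectedness over a separably closed extension gives geometric connectedness. -/
theorem geometricallyConnected_of_connected_pullback {k : Type u} [Field k] {X : Scheme.{u}}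
    (f : X ⟶ Spec (CommRingCat.of k)) (K : Type u) [Field K] [Algebra k K] [IsSepClosed K]
    [ConnectedSpace ↥(pullback f (Spec.map (CommRingCat.ofHom (algebraMap k K))))] : GeometricallyConnected f := by
  haveI := surjective_specMap_field k K
  haveI := geometricallyConnected_of_connectedSpace (k := K)
    (pullback.snd f (Spec.map (CommRingCat.ofHom (algebraMap k K))))
  exact geometricallyConnected_of_surjective f (Spec.map (CommRingCat.ofHom (algebraMap k K)))

end Groth.Agent.GeomIrred
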