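import Mathlib
import Groth.Agent.GeomIrred.Scheme

/-! Irreducibility and connectedness over finite subextensions give them over algebraic extensions. -/

set_option autoImplicit false
universe u

open CategoryTheory CategoryTheory.Limits AlgebraicGeometry TensorProduct

noncomputable section

namespace Groth.Agent.GeomIrred

variable {k : Type u} [Field k]

/-- Every element of a tensor product with an algebraic extension is defined over a finite subextension. -/
theorem exists_finite_mem_range {R : Type u} [CommRing R] [Algebra k R] {K : Type u} [Field K] [Algebra k K]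
    [Algebra.IsAlgebraic k K] (s : R ⊗[k] K) :
    ∃ L : IntermediateField k K, FiniteDimensional k L ∧
      s ∈ (Algebra.TensorProduct.map (AlgHom.id k R) L.val).range := by
  induction s with
  | zero => exact ⟨⊥, inferInstance, zero_mem _⟩
  | tmul r c =>
    exact ⟨IntermediateField.adjoin k {c},
      IntermediateField.adjoin.finiteDimensional (Algebra.IsIntegral.isIntegral c),
      r ⊗ₜ ⟨c, IntermediateField.mem_adjoin_simple_self k c⟩, rfl⟩
  | add a b ha hb =>
    obtain ⟨L, hL, ha⟩ := ha
    obtain ⟨L', hL', hb⟩ := hb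
    refine ⟨L ⊔ L', inferInstance, add_mem ?_ ?_⟩
    · obtain ⟨x, rfl⟩ := ha
      exact ⟨Algebra.TensorProduct.map (AlgHom.id k R) (IntermediateField.inclusion le_sup_left) x, by
        induction x with
        | zero => simp
        | tmul r c => rfl
        | add p q hp hq => simp only [map_add, hp, hq]⟩
    · obtain ⟨x, rfl⟩ := hb
      exact ⟨Algebra.TensorProduct.map (AlgHom.id k R) (IntermediateField.inclusion le_sup_right) x, by
        induction x with
        | zero => simp
        | tmul r c => rfl
        | add p q hp hq => simp only [map_add, hp, hq]⟩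

variable {X : Scheme.{u}} (f : X ⟶ Spec (CommRingCat.of k))

/-- Base change to a field extension. -/
abbrev bcs (L : Type u) [Field L] [Algebra k L] : Scheme.{u} :=
  pullback f (Spec.map (CommRingCat.ofHom (algebraMap k L)))

theorem specMap_comp {L M : Type u} [Field L] [Field M] [Algebra k L] [Algebra k M] (a : L →ₐ[k] M) :
    Spec.map (CommRingCat.ofHom a.toRingHom) ≫ Spec.map (CommRingCat.ofHom (algebraMap k L)) =
      Spec.map (CommRingCat.ofHom (algebraMap k M)) := by
  rw [← Spec.map_comp, ← CommRingCat.ofHom_comp, AlgHom.toRingHom_eq_coe, AlgHom.comp_algebraMap]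

/-- The transition map of base changes. -/
def trans {L M : Type u} [Field L] [Field M] [Algebra k L] [Algebra k M] (a : L →ₐ[k] M) : bcs f M ⟶ bcs f L :=
  pullback.map _ _ _ _ (𝟙 X) (Spec.map (CommRingCat.ofHom a.toRingHom)) (𝟙 _) (by simp)
    (by rw [specMap_comp, Category.comp_id])

theorem isPullback_trans {L M : Type u} [Field L] [Field M] [Algebra k L] [Algebra k M] (a : L →ₐ[k] M) :
    IsPullback (trans f a) (pullback.snd _ _) (pullback.snd _ _) (Spec.map (CommRingCat.ofHom a.toRingHom)) := by
  refine IsPullback.of_right ?_ (pullback.lift_snd _ _ _) (IsPullback.of_hasPullback f (Spec.map (CommRingCat.ofHom (algebraMap k L))))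
  convert! IsPullback.of_hasPullback f (Spec.map (CommRingCat.ofHom (algebraMap k M))) using 1
  · rw [trans, pullback.lift_fst, Category.comp_id]
  · exact specMap_comp a

theorem trans_props {L M : Type u} [Field L] [Field M] [Algebra k L] [Algebra k M] (a : L →ₐ[k] M) :
    Surjective (trans f a) ∧ UniversallyOpen (trans f a) ∧
      (Algebra.IsAlgebraic k M → UniversallyClosed (trans f a)) := by
  have h := isPullback_trans f a
  refine ⟨MorphismProperty.of_isPullback h.flip ⟨fun _ => ⟨IsLocalRing.closedPoint M,
      Subsingleton.elim (α := PrimeSpectrum L) _ _⟩⟩,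
    MorphismProperty.of_isPullback h.flip inferInstance, fun halg => ?_⟩
  haveI : IsIntegralHom (Spec.map (CommRingCat.ofHom a.toRingHom)) := by
    rw [IsIntegralHom.SpecMap_iff]
    intro x
    exact RingHom.IsIntegral.tower_top (algebraMap k L) a.toRingHom
      (by rw [AlgHom.toRingHom_eq_coe, AlgHom.comp_algebraMap]
          exact fun y => (halg.isAlgebraic y).isIntegral) x
  haveI : IsIntegralHom (trans f a) := MorphismProperty.of_isPullback h.flip inferInstance
  infer_instance

theorem trans_comp {L M N : Type u} [Field L] [Field M] [Field N] [Algebra k L] [Algebra k M] [Algebra k N]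
    (a : L →ₐ[k] M) (b : M →ₐ[k] N) : trans f b ≫ trans f a = trans f (b.comp a) := by
  apply pullback.hom_ext
  · simp only [trans, Category.assoc, pullback.lift_fst, Category.comp_id]
  · simp only [trans, Category.assoc, pullback.lift_snd, pullback.lift_snd_assoc, ← Spec.map_comp]
    rfl

variable (K : Type u) [Field K] [Algebra k K] [Algebra.IsAlgebraic k K]

section Affine

variable {f} {R : Type u} [CommRing R] [Algebra k R] (j : Spec (CommRingCat.of R) ⟶ X)
  (hj : j ≫ f = Spec.map (CommRingCat.ofHom (algebraMap k R)))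

/-- The base change of an affine piece. -/
def piece (M : Type u) [Field M] [Algebra k M] : Spec (CommRingCat.of (R ⊗[k] M)) ⟶ bcs f M :=
  (pullbackSpecIso k R M).inv ≫ pullback.map _ _ _ _ j (𝟙 _) (𝟙 _)
    (by rw [Category.comp_id, hj]) (by simp)

include hj

instance piece_isOpenImmersion [IsOpenImmersion j] (M : Type u) [Field M] [Algebra k M] :
    IsOpenImmersion (piece j hj M) := by
  rw [piece]; infer_instance

@[reassoc]
theorem piece_fst (M : Type u) [Field M] [Algebra k M] : piece j hj M ≫ pullback.fst _ _ =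
    Spec.map (CommRingCat.ofHom Algebra.TensorProduct.includeLeftRingHom) ≫ j := by
  simp only [piece, Category.assoc, pullback.lift_fst]
  rw [pullbackSpecIso_inv_fst_assoc]

@[reassoc]
theorem piece_snd (M : Type u) [Field M] [Algebra k M] : piece j hj M ≫ pullback.snd _ _ =
    Spec.map (CommRingCat.ofHom (Algebra.TensorProduct.includeRight (R := k) (A := R) (B := M)).toRingHom) := by
  simp only [piece, Category.assoc, pullback.lift_snd, Category.comp_id]
  exact pullbackSpecIso_inv_snd ..

theorem mem_range_piece (M : Type u) [Field M] [Algebra k M] (z : bcs f M)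
    (hz : pullback.fst f _ z ∈ Set.range j) : z ∈ Set.range (piece j hj M) := by
  have h : z ∈ Set.range (pullback.map (Spec.map (CommRingCat.ofHom (algebraMap k R)))
      (Spec.map (CommRingCat.ofHom (algebraMap k M))) f (Spec.map (CommRingCat.ofHom (algebraMap k M)))
      j (𝟙 _) (𝟙 _) (by rw [Category.comp_id, hj]) (by simp)) := by
    rw [Scheme.Pullback.range_map]
    exact ⟨hz, ⟨pullback.snd f _ z, rfl⟩⟩
  obtain ⟨w, hw⟩ := h
  refine ⟨(pullbackSpecIso k R M).hom w, ?_⟩
  rw [← hw, ← Scheme.Hom.comp_apply, piece, Iso.hom_inv_id_assoc]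

theorem piece_trans {L M : Type u} [Field L] [Field M] [Algebra k L] [Algebra k M] (a : L →ₐ[k] M) :
    Spec.map (CommRingCat.ofHom (Algebra.TensorProduct.map (AlgHom.id k R) a).toRingHom) ≫ piece j hj L =
      piece j hj M ≫ trans f a := by
  apply pullback.hom_ext
  · rw [Category.assoc, Category.assoc, piece_fst, trans, pullback.lift_fst, Category.comp_id, piece_fst,
      ← Spec.map_comp_assoc]
    congr 2
    ext c
    simp
  · rw [Category.assoc, Category.assoc, piece_snd, trans, pullback.lift_snd, piece_snd_assoc,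
      ← Spec.map_comp, ← Spec.map_comp]
    congr 1

end Affine

/-- A nonempty open of the base change contains the preimage of a nonempty open at a finite level. -/
theorem exists_finite_preimage_subset (U : (bcs f K).Opens) (hU : (U : Set (bcs f K)).Nonempty) :
    ∃ (L : IntermediateField k K) (U' : Set (bcs f L)), FiniteDimensional k L ∧ IsOpen U' ∧ U'.Nonempty ∧
      trans f L.val ⁻¹' U' ⊆ U := by
  obtain ⟨x, hx⟩ := hU
  obtain ⟨R, j, hopen, hxj⟩ : ∃ (R : CommRingCat.{u}) (j : Spec R ⟶ X), IsOpenImmersion j ∧
      pullback.fst f _ x ∈ Set.range j := by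
    obtain ⟨i, y, hy⟩ := X.affineCover.exists_eq (pullback.fst f _ x)
    refine ⟨Γ(X.affineCover.X i, ⊤), (X.affineCover.X i).isoSpec.inv ≫ X.affineCover.f i, inferInstance,
      (X.affineCover.X i).isoSpec.hom y, ?_⟩
    rw [← hy, ← Scheme.Hom.comp_apply, Iso.hom_inv_id_assoc]
  obtain ⟨φ, hφ⟩ := Spec.map_surjective (j ≫ f)
  letI : Algebra k R := φ.hom.toAlgebra
  have hj : j ≫ f = Spec.map (CommRingCat.ofHom (algebraMap k R)) := hφ.symm
  obtain ⟨v, hv⟩ := mem_range_piece j hj K x hxj
  obtain ⟨-, ⟨s, rfl⟩, hvs, hsU⟩ := PrimeSpectrum.isTopologicalBasis_basic_opens.exists_subset_of_mem_open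
    (show v ∈ piece j hj K ⁻¹' (U : Set (bcs f K)) by simpa [hv] using hx) (U.2.preimage (piece j hj K).continuous)
  obtain ⟨L, hL, s', rfl⟩ := exists_finite_mem_range s
  let μ : R ⊗[k] L →ₐ[k] R ⊗[k] K := Algebra.TensorProduct.map (AlgHom.id k R) L.val
  refine ⟨L, piece j hj L '' (PrimeSpectrum.basicOpen s' : Set (PrimeSpectrum (R ⊗[k] L))), hL,
    (piece j hj L).isOpenEmbedding.isOpenMap _ PrimeSpectrum.isOpen_basicOpen,
    Set.Nonempty.image _ ⟨PrimeSpectrum.comap μ.toRingHom v, hvs⟩, ?_⟩
  rintro z ⟨w, hw, hwz⟩
  have hzj : pullback.fst f _ z ∈ Set.range j := by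
    refine ⟨Spec.map (CommRingCat.ofHom Algebra.TensorProduct.includeLeftRingHom) w, ?_⟩
    have h1 : pullback.fst f _ (trans f L.val z) = pullback.fst f _ z := by
      rw [← Scheme.Hom.comp_apply, trans, pullback.lift_fst, Category.comp_id]
    rw [← h1, ← hwz, ← Scheme.Hom.comp_apply (piece j hj L), piece_fst]
    rfl
  obtain ⟨v', rfl⟩ := mem_range_piece j hj K z hzj
  apply hsU
  have h2 : Spec.map (CommRingCat.ofHom μ.toRingHom) v' = w := (piece j hj L).isOpenEmbedding.injective (by
    rw [hwz, ← Scheme.Hom.comp_apply, ← Scheme.Hom.comp_apply, piece_trans])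
  rw [← h2] at hw
  exact hw

theorem irreducibleSpace_bcs
    (h : ∀ L : IntermediateField k K, FiniteDimensional k L → IrreducibleSpace (bcs f L)) :
    IrreducibleSpace (bcs f K) := by
  haveI := h ⊥ inferInstance
  haveI : Nonempty (bcs f K) :=
    ((trans_props f (⊥ : IntermediateField k K).val).1.surj (Classical.arbitrary _)).nonempty
  haveI : PreirreducibleSpace (bcs f K) := by
    refine ⟨fun U V hU hV hU' hV' => ?_⟩
    rw [Set.univ_inter] at hU' hV' ⊢
    obtain ⟨L₁, U₁, h₁, hoU, hneU, hsubU⟩ := exists_finite_preimage_subset f K ⟨U, hU⟩ hU'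
    obtain ⟨L₂, V₂, h₂, hoV, hneV, hsubV⟩ := exists_finite_preimage_subset f K ⟨V, hV⟩ hV'
    let M := L₁ ⊔ L₂
    haveI := h M inferInstance
    let i₁ : L₁ →ₐ[k] M := IntermediateField.inclusion le_sup_left
    let i₂ : L₂ →ₐ[k] M := IntermediateField.inclusion le_sup_right
    obtain ⟨m, hm₁, hm₂⟩ := nonempty_preirreducible_inter (hoU.preimage (trans f i₁).continuous)
      (hoV.preimage (trans f i₂).continuous) (hneU.preimage (trans_props f i₁).1.surj)
      (hneV.preimage (trans_props f i₂).1.surj)
    obtain ⟨z, rfl⟩ := (trans_props f M.val).1.surj m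
    refine ⟨z, hsubU ?_, hsubV ?_⟩
    · rw [Set.mem_preimage, ← Scheme.Hom.comp_apply, trans_comp] at hm₁
      exact hm₁
    · rw [Set.mem_preimage, ← Scheme.Hom.comp_apply, trans_comp] at hm₂
      exact hm₂
  exact ⟨inferInstance⟩

theorem connectedSpace_bcs
    (h : ∀ L : IntermediateField k K, FiniteDimensional k L → ConnectedSpace (bcs f L)) :
    ConnectedSpace (bcs f K) := by
  haveI := h ⊥ inferInstance
  haveI : Nonempty (bcs f K) :=
    ((trans_props f (⊥ : IntermediateField k K).val).1.surj (Classical.arbitrary _)).nonempty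
  haveI : PreconnectedSpace (bcs f K) := by
    refine preconnectedSpace_iff_clopen.mpr fun A hA => ?_
    by_contra! hne
    obtain ⟨L, U', hL, -, ⟨u, hu⟩, hsub⟩ := exists_finite_preimage_subset f K ⟨A, hA.2⟩ hne.1
    obtain ⟨hs, ho, hc⟩ := trans_props f L.val
    haveI := hc inferInstance
    haveI := ho
    haveI := h L hL
    have hclopen : IsClopen (trans f L.val '' Aᶜ) :=
      ⟨(trans f L.val).isClosedMap _ hA.compl.1, (trans f L.val).isOpenMap _ hA.compl.2⟩
    have hAc : Aᶜ.Nonempty := Set.nonempty_compl.mpr hne.2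
    obtain ⟨z, hz, hzu⟩ : u ∈ trans f L.val '' Aᶜ := by
      rw [hclopen.eq_univ (hAc.image _)]; trivial
    exact hz (hsub (by rw [Set.mem_preimage, hzu]; exact hu))
  exact ⟨inferInstance⟩

theorem geometricallyIrreducible_of_finite_separable
    (h : ∀ (L : Type u) [Field L] [Algebra k L] [FiniteDimensional k L] [Algebra.IsSeparable k L],
      IrreducibleSpace (bcs f L)) : GeometricallyIrreducible f := by
  haveI : IrreducibleSpace (bcs f (SeparableClosure k)) :=
    irreducibleSpace_bcs f _ fun L hL => h L
  exact geometricallyIrreducible_of_irreducible_pullback f (SeparableClosure k)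

theorem geometricallyConnected_of_finite_separable
    (h : ∀ (L : Type u) [Field L] [Algebra k L] [FiniteDimensional k L] [Algebra.IsSeparable k L],
      ConnectedSpace (bcs f L)) : GeometricallyConnected f := by
  haveI : ConnectedSpace (bcs f (SeparableClosure k)) :=
    connectedSpace_bcs f _ fun L hL => h L
  exact geometricallyConnected_of_connected_pullback f (SeparableClosure k)

end Groth.Agent.GeomIrred
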