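import Mathlib
import Groth.Agent.GeomIrred.FinSep

/-! Points whose residue field has no nontrivial separable algebraic elements over the ground field. -/

set_option autoImplicit false
universe u v

open CategoryTheory CategoryTheory.Limits AlgebraicGeometry TensorProduct Polynomial

noncomputable section

namespace Groth.Agent.GeomIrred

/-- A separable irreducible polynomial stays irreducible over an extension without separable algebraic elements. -/
theorem irreducible_map_of_separableClosure_eq_bot {k : Type u} {κ : Type v} [Field k] [Field κ] [Algebra k κ]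
    (hκ : separableClosure k κ = ⊥) {p : k[X]} (hp : Irreducible p) (hm : p.Monic) (hs : p.Separable) :
    Irreducible (p.map (algebraMap k κ)) := by
  let Ω := AlgebraicClosure κ
  have hdeg : ¬ IsUnit (p.map (algebraMap k κ)) := by
    rw [Polynomial.isUnit_iff_degree_eq_zero, Polynomial.degree_map]
    exact fun h => hp.not_isUnit (Polynomial.isUnit_iff_degree_eq_zero.mpr h)
  obtain ⟨q, hqm, hqi, hqd⟩ := Polynomial.exists_monic_irreducible_factor _ hdeg
  suffices h : q = p.map (algebraMap k κ) by rwa [← h]
  let S := separableClosure k Ω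
  have hlift : q.map (algebraMap κ Ω) ∈ Polynomial.lifts (algebraMap S Ω) := by
    rw [(IsAlgClosed.splits (q.map (algebraMap κ Ω))).eq_prod_roots_of_monic (hqm.map _)]
    refine Subsemiring.multiset_prod_mem _ _ fun g hg => ?_
    rw [Multiset.mem_map] at hg
    obtain ⟨r, hr, rfl⟩ := hg
    have hroot : aeval r p = 0 := by
      have h1 : (q.map (algebraMap κ Ω)) ∣ (p.map (algebraMap k Ω)) := by
        rw [IsScalarTower.algebraMap_eq k κ Ω, ← Polynomial.map_map]
        exact Polynomial.map_dvd _ hqd
      have h2 := (Polynomial.mem_roots (hqm.map _).ne_zero).mp hr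
      rw [Polynomial.aeval_def, Polynomial.eval₂_eq_eval_map]
      exact eval_eq_zero_of_dvd_of_eval_eq_zero h1 h2
    have hrS : r ∈ S := by
      rw [mem_separableClosure_iff]
      exact hs.of_dvd (minpoly.dvd k r hroot)
    refine (Polynomial.mem_lifts _).mpr ⟨X - C ⟨r, hrS⟩, ?_⟩
    rw [Polynomial.map_sub, Polynomial.map_X, Polynomial.map_C]
    rfl
  have hbot : q ∈ Polynomial.lifts (algebraMap k κ) := by
    rw [Polynomial.lifts_iff_coeff_lifts] at hlift ⊢
    intro n
    obtain ⟨s, hs'⟩ := hlift n
    rw [Polynomial.coeff_map] at hs'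
    have hsep : IsSeparable k (q.coeff n) := by
      have h3 : IsSeparable k (algebraMap κ Ω (q.coeff n)) := by
        rw [← hs']
        exact mem_separableClosure_iff.mp s.2
      rw [IsSeparable, minpoly.algebraMap_eq (algebraMap κ Ω).injective] at h3
      exact h3
    have h4 : q.coeff n ∈ (⊥ : IntermediateField k κ) := hκ ▸ mem_separableClosure_iff.mpr hsep
    obtain ⟨c, hc⟩ := IntermediateField.mem_bot.mp h4
    exact ⟨c, hc⟩
  obtain ⟨q₀, hq₀, hq₀deg, hq₀m⟩ := Polynomial.lifts_and_degree_eq_and_monic hbot hqm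
  have hdvd : q₀ ∣ p := by
    rw [← Polynomial.map_dvd_map' (algebraMap k κ), hq₀]
    exact hqd
  have hnu : ¬ IsUnit q₀ := by
    intro h
    apply hqi.not_isUnit
    rw [← hq₀]
    exact h.map (Polynomial.mapRingHom (algebraMap k κ))
  rw [← hq₀, Polynomial.eq_of_monic_of_associated hq₀m hm ((hp.dvd_iff.mp hdvd).resolve_left hnu).symm]

theorem subsingleton_primeSpectrum_tensor {k : Type u} {κ : Type v} [Field k] [Field κ] [Algebra k κ]
    (hκ : separableClosure k κ = ⊥) (L : Type u) [Field L] [Algebra k L] [FiniteDimensional k L]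
    [Algebra.IsSeparable k L] : Subsingleton (PrimeSpectrum (κ ⊗[k] L)) := by
  let pb := Field.powerBasisOfFiniteOfSeparable k L
  have hsep : (minpoly k pb.gen).Separable := Algebra.IsSeparable.isSeparable k pb.gen
  have hirr := irreducible_map_of_separableClosure_eq_bot (κ := κ) hκ
    (minpoly.irreducible pb.isIntegral_gen) (minpoly.monic pb.isIntegral_gen) hsep
  let Ω := AlgebraicClosure κ
  let σ : L →ₐ[k] Ω := IsAlgClosed.lift
  let Ψ : κ ⊗[k] L →ₐ[κ] Ω := Algebra.TensorProduct.lift (Algebra.ofId κ Ω) σ fun _ _ => Commute.all _ _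
  have hmin : minpoly κ (σ pb.gen) = (minpoly k pb.gen).map (algebraMap k κ) := by
    refine (minpoly.eq_of_irreducible_of_monic hirr ?_ ((minpoly.monic pb.isIntegral_gen).map _)).symm
    rw [Polynomial.aeval_map_algebraMap, Polynomial.aeval_algHom_apply, minpoly.aeval, map_zero]
  let b := Algebra.TensorProduct.basis κ pb.basis
  have hdim : (minpoly κ (σ pb.gen)).natDegree = pb.dim := by
    rw [hmin, Polynomial.natDegree_map, pb.natDegree_minpoly]
  have hli : LinearIndependent κ (fun i : Fin pb.dim => (σ pb.gen) ^ (i : ℕ)) :=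
    (linearIndependent_pow (σ pb.gen)).comp (Fin.cast hdim.symm) (Fin.cast_injective _)
  have hinj : Function.Injective Ψ := by
    rw [injective_iff_map_eq_zero]
    intro z hz
    rw [← b.sum_repr z] at hz ⊢
    simp only [map_sum, map_smul] at hz
    have h0 := Fintype.linearIndependent_iff.mp hli (fun i => b.repr z i) (by
      rw [← hz]
      refine Finset.sum_congr rfl fun i _ => ?_
      simp [b, Ψ, PowerBasis.basis_eq_pow])
    simp only [h0, zero_smul, Finset.sum_const_zero]
  haveI : IsDomain (κ ⊗[k] L) := hinj.isDomain Ψ.toRingHom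
  haveI : Algebra.IsIntegral κ (κ ⊗[k] L) := Algebra.IsIntegral.of_finite _ _
  letI := (isField_of_isIntegral_of_isField' (R := κ) (S := κ ⊗[k] L) (Field.toIsField κ)).toField
  infer_instance

theorem preimage_singleton_subsingleton {k : Type u} [Field k] {X : Scheme.{u}} (f : X ⟶ Spec (CommRingCat.of k))
    (x : X) (φ : k →+* X.residueField x) (hφ : Spec.map (CommRingCat.ofHom φ) = X.fromSpecResidueField x ≫ f)
    (hx : letI := φ.toAlgebra; separableClosure k (X.residueField x) = ⊥)
    (L : Type u) [Field L] [Algebra k L] [FiniteDimensional k L] [Algebra.IsSeparable k L] :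
    (pullback.fst f (Spec.map (CommRingCat.ofHom (algebraMap k L))) ⁻¹' {x}).Subsingleton := by
  letI := φ.toAlgebra
  let r : pullback (Spec.map (CommRingCat.ofHom (algebraMap k (X.residueField x))))
      (Spec.map (CommRingCat.ofHom (algebraMap k L))) ⟶ bcs f L :=
    pullback.map _ _ _ _ (X.fromSpecResidueField x) (𝟙 _) (𝟙 _) (by rw [Category.comp_id, ← hφ]) (by simp)
  haveI := @subsingleton_primeSpectrum_tensor k (X.residueField x) _ _ _ hx L _ _ _ _
  haveI : Subsingleton ↥(Spec (CommRingCat.of ((X.residueField x) ⊗[k] L))) :=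
    ‹Subsingleton (PrimeSpectrum ((X.residueField x) ⊗[k] L))›
  haveI : Subsingleton ↥(pullback (Spec.map (CommRingCat.ofHom (algebraMap k (X.residueField x))))
      (Spec.map (CommRingCat.ofHom (algebraMap k L)))) :=
    (pullbackSpecIso k (X.residueField x) L).hom.homeomorph.injective.subsingleton
  have hmem : ∀ z : bcs f L, pullback.fst f _ z = x → z ∈ Set.range r := by
    intro z hz
    rw [Scheme.Pullback.range_map]
    refine ⟨?_, ⟨pullback.snd f _ z, rfl⟩⟩
    rw [Set.mem_preimage, Scheme.range_fromSpecResidueField, Set.mem_singleton_iff]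
    exact hz
  intro z hz z' hz'
  obtain ⟨w, rfl⟩ := hmem z hz
  obtain ⟨w', rfl⟩ := hmem z' hz'
  rw [Subsingleton.elim w w']

theorem geometricallyConnected_of_point {k : Type u} [Field k] {X : Scheme.{u}} [ConnectedSpace X]
    (f : X ⟶ Spec (CommRingCat.of k)) (x : X) (φ : k →+* X.residueField x)
    (hφ : Spec.map (CommRingCat.ofHom φ) = X.fromSpecResidueField x ≫ f)
    (hx : letI := φ.toAlgebra; separableClosure k (X.residueField x) = ⊥) : GeometricallyConnected f := by
  refine geometricallyConnected_of_finite_separable f fun L _ _ _ _ => ?_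
  let p := pullback.fst f (Spec.map (CommRingCat.ofHom (algebraMap k L)))
  haveI : IsIntegralHom (Spec.map (CommRingCat.ofHom (algebraMap k L))) := by
    rw [IsIntegralHom.SpecMap_iff]
    exact fun y => Algebra.IsIntegral.isIntegral y
  haveI := surjective_specMap_field k L
  haveI : Nonempty (bcs f L) := ⟨((inferInstance : Surjective p).surj x).choose⟩
  haveI : PreconnectedSpace (bcs f L) := by
    refine preconnectedSpace_iff_clopen.mpr fun A hA => ?_
    by_contra! hne
    have key : ∀ B : Set (bcs f L), IsClopen B → B.Nonempty → ∃ z ∈ B, p z = x := by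
      intro B hB hBn
      have h : p '' B = Set.univ :=
        IsClopen.eq_univ ⟨p.isClosedMap _ hB.1, p.isOpenMap _ hB.2⟩ (hBn.image _)
      obtain ⟨z, hz, hzx⟩ : x ∈ p '' B := by rw [h]; trivial
      exact ⟨z, hz, hzx⟩
    obtain ⟨a, ha, hax⟩ := key A hA hne.1
    obtain ⟨b, hb, hbx⟩ := key Aᶜ hA.compl (Set.nonempty_compl.mpr hne.2)
    exact hb (preimage_singleton_subsingleton f x φ hφ hx L hax hbx ▸ ha)
  exact ⟨inferInstance⟩

end Groth.Agent.GeomIrred
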