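import Mathlib
import Groth.Agent.GrpSchLib.Basic
import Groth.Agent.GeomIrred.Point

/-! Group schemes over fields: any two generalisations of a point have a common generalisation, and the
component through the unit is geometrically irreducible. -/

set_option autoImplicit false
universe u

open CategoryTheory MonoidalCategory CartesianMonoidalCategory MonObj AlgebraicGeometry Limits
open scoped CategoryTheory.Obj

noncomputable section

namespace Groth.Agent.GeomIrred

open GrpSchLib

variable {K : Type u} [Field K]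

section SepClosed

variable [IsSepClosed K] {G : Over (Spec (CommRingCat.of K))}

theorem irreducibleSpace_ptObj_tensor (g h : G.left) : IrreducibleSpace (ptObj g ⊗ ptObj h).left := by
  haveI : IrreducibleSpace ↥(ptObj g).left := inferInstanceAs (IrreducibleSpace ↥(Spec _))
  haveI : IrreducibleSpace ↥(ptObj h).left := inferInstanceAs (IrreducibleSpace ↥(Spec _))
  haveI := geometricallyIrreducible_of_irreducibleSpace (ptObj g).hom
  exact inferInstanceAs (IrreducibleSpace ↥(pullback (ptObj g).hom (ptObj h).hom))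

variable [GrpObj G]

theorem one_apply (T : Over (Spec (CommRingCat.of K))) (t : T.left) :
    (1 : T ⟶ G).left t = η[G].left (IsLocalRing.closedPoint K) := by
  rw [Hom.one_def, Over.comp_left, Scheme.Hom.comp_apply]
  congr 1
  exact Subsingleton.elim (α := PrimeSpectrum K) _ _

theorem exists_common_generalization_unit {ξ₁ ξ₂ : G.left}
    (h₁ : ξ₁ ⤳ η[G].left (IsLocalRing.closedPoint K)) (h₂ : ξ₂ ⤳ η[G].left (IsLocalRing.closedPoint K)) :
    ∃ ω, ω ⤳ ξ₁ ∧ ω ⤳ ξ₂ := by
  haveI := irreducibleSpace_ptObj_tensor ξ₁ ξ₂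
  let a : ptObj ξ₁ ⊗ ptObj ξ₂ ⟶ G := (fst _ _ ≫ ptHom ξ₁) * (snd _ _ ≫ ptHom ξ₂)
  obtain ⟨ω₀, hω₀⟩ := QuasiSober.sober (IrreducibleSpace.isIrreducible_univ (ptObj ξ₁ ⊗ ptObj ξ₂).left) isClosed_univ
  refine ⟨a.left ω₀, ?_, ?_⟩
  · let M : ptObj ξ₁ ⊗ G ⟶ G := ptHom ξ₁ ▷ G ≫ μ[G]
    obtain ⟨t⟩ : Nonempty (ptObj ξ₁).left := inferInstanceAs (Nonempty (Spec _))
    let s : ptObj ξ₁ ⟶ ptObj ξ₁ ⊗ G := lift (𝟙 _) 1
    have hs : s ≫ M = ptHom ξ₁ := by
      show s ≫ ptHom ξ₁ ▷ G ≫ μ[G] = _
      rw [whiskerRight_mul, MonObj.comp_mul, ← Category.assoc, lift_fst, lift_snd, Category.id_comp]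
      exact _root_.mul_one _
    haveI := flat_snd (T := ptObj ξ₁) (G := G) inferInstance
    have hw : (snd (ptObj ξ₁) G).left (s.left t) = η[G].left (IsLocalRing.closedPoint K) := by
      rw [← Scheme.Hom.comp_apply, ← Over.comp_left, lift_snd]
      exact one_apply _ t
    obtain ⟨w', hw', hw'2⟩ := Flat.generalizingMap (snd (ptObj ξ₁) G).left (hw ▸ h₂)
    obtain ⟨z, hz⟩ : w' ∈ Set.range (ptObj ξ₁ ◁ ptHom ξ₂).left := by
      have hr : w' ∈ Set.range (pullback.map (ptObj ξ₁).hom (ptObj ξ₂).hom (ptObj ξ₁).hom G.hom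
          (𝟙 _) (G.left.fromSpecResidueField ξ₂) (𝟙 _) (by simp) (by simp)) := by
        rw [Scheme.Pullback.range_map]
        refine ⟨⟨_, rfl⟩, ?_⟩
        rw [Set.mem_preimage, Scheme.range_fromSpecResidueField]
        exact hw'2
      convert! hr using 3
    have hza : ((ptObj ξ₁ ◁ ptHom ξ₂) ≫ M) = a := by
      show _ ≫ ptHom ξ₁ ▷ G ≫ μ[G] = _
      rw [whiskerRight_mul, MonObj.comp_mul, ← Category.assoc, whiskerLeft_fst, whiskerLeft_snd]
    have h3 : a.left z ⤳ ξ₁ := by
      have h4 := hw'.map M.left.continuous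
      rw [← hz, ← Scheme.Hom.comp_apply, ← Over.comp_left, hza, ← Scheme.Hom.comp_apply, ← Over.comp_left, hs,
        ptHom_apply] at h4
      exact h4
    exact ((hω₀.specializes (Set.mem_univ z)).map a.left.continuous).trans h3
  · let M : G ⊗ ptObj ξ₂ ⟶ G := fst _ _ * (snd _ _ ≫ ptHom ξ₂)
    obtain ⟨t⟩ : Nonempty (ptObj ξ₂).left := inferInstanceAs (Nonempty (Spec _))
    let s : ptObj ξ₂ ⟶ G ⊗ ptObj ξ₂ := lift 1 (𝟙 _)
    have hs : s ≫ M = ptHom ξ₂ := by
      rw [MonObj.comp_mul, ← Category.assoc, lift_fst, lift_snd, Category.id_comp]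
      exact _root_.one_mul _
    haveI : Flat (fst G (ptObj ξ₂)).left :=
      MorphismProperty.of_isPullback (P := @Flat) isPullback_fst_snd.flip inferInstance
    have hw : (fst G (ptObj ξ₂)).left (s.left t) = η[G].left (IsLocalRing.closedPoint K) := by
      rw [← Scheme.Hom.comp_apply, ← Over.comp_left, lift_fst]
      exact one_apply _ t
    obtain ⟨w', hw', hw'2⟩ := Flat.generalizingMap (fst G (ptObj ξ₂)).left (hw ▸ h₁)
    obtain ⟨z, hz⟩ : w' ∈ Set.range (ptHom ξ₁ ▷ ptObj ξ₂).left := by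
      have hr : w' ∈ Set.range (pullback.map (ptObj ξ₁).hom (ptObj ξ₂).hom G.hom (ptObj ξ₂).hom
          (G.left.fromSpecResidueField ξ₁) (𝟙 _) (𝟙 _) (by simp) (by simp)) := by
        rw [Scheme.Pullback.range_map]
        refine ⟨?_, ⟨_, rfl⟩⟩
        rw [Set.mem_preimage, Scheme.range_fromSpecResidueField]
        exact hw'2
      convert! hr using 3
    have hza : ((ptHom ξ₁ ▷ ptObj ξ₂) ≫ M) = a := by
      rw [MonObj.comp_mul, whiskerRight_fst, ← Category.assoc, whiskerRight_snd]
    have h3 : a.left z ⤳ ξ₂ := by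
      have h4 := hw'.map M.left.continuous
      rw [← hz, ← Scheme.Hom.comp_apply, ← Over.comp_left, hza, ← Scheme.Hom.comp_apply, ← Over.comp_left, hs,
        ptHom_apply] at h4
      exact h4
    exact ((hω₀.specializes (Set.mem_univ z)).map a.left.continuous).trans h3

theorem exists_common_generalization_rational (a : 𝟙_ (Over (Spec (CommRingCat.of K))) ⟶ G) {ξ₁ ξ₂ : G.left}
    (h₁ : ξ₁ ⤳ a.left (IsLocalRing.closedPoint K)) (h₂ : ξ₂ ⤳ a.left (IsLocalRing.closedPoint K)) :
    ∃ ω, ω ⤳ ξ₁ ∧ ω ⤳ ξ₂ := by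
  let L : G ⟶ G := (toUnit G ≫ a) * 𝟙 G
  let L' : G ⟶ G := (toUnit G ≫ a)⁻¹ * 𝟙 G
  have hc : ∀ u : G ⟶ G, u ≫ toUnit G ≫ a = toUnit G ≫ a := fun u => by
    rw [← Category.assoc, toUnit_unique (u ≫ toUnit G) (toUnit G)]
  have hLL : L' ≫ L = 𝟙 G := by
    rw [MonObj.comp_mul, hc, Category.comp_id]
    exact mul_inv_cancel_left _ _
  have hae : (a ≫ L').left (IsLocalRing.closedPoint K) = η[G].left (IsLocalRing.closedPoint K) := by
    have : a ≫ L' = 1 := by
      rw [MonObj.comp_mul, GrpObj.comp_inv, ← Category.assoc, toUnit_unique (a ≫ toUnit G) (𝟙 _), Category.id_comp,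
        Category.comp_id]
      exact inv_mul_cancel _
    rw [this]
    exact one_apply _ _
  replace hae : L'.left (a.left (IsLocalRing.closedPoint K)) = η[G].left (IsLocalRing.closedPoint K) := hae
  obtain ⟨ω, hω₁, hω₂⟩ := exists_common_generalization_unit (G := G)
    (hae ▸ h₁.map L'.left.continuous) (hae ▸ h₂.map L'.left.continuous)
  have h5 : ∀ z, L.left (L'.left z) = z := fun z => by
    rw [← Scheme.Hom.comp_apply, ← Over.comp_left, hLL]; rfl
  exact ⟨L.left ω, h5 ξ₁ ▸ hω₁.map L.left.continuous, h5 ξ₂ ▸ hω₂.map L.left.continuous⟩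

end SepClosed

variable {G : Over (Spec (CommRingCat.of K))} [GrpObj G]

theorem exists_common_generalization_geometric {L : Type u} [Field L] [IsSepClosed L]
    (u : Spec (CommRingCat.of L) ⟶ G.left) (z : Spec (CommRingCat.of L)) {ξ₁ ξ₂ : G.left}
    (h₁ : ξ₁ ⤳ u z) (h₂ : ξ₂ ⤳ u z) :
    ∃ ω, ω ⤳ ξ₁ ∧ ω ⤳ ξ₂ := by
  obtain ⟨g, hg⟩ : ∃ g : Spec (CommRingCat.of L) ⟶ Spec (CommRingCat.of K), u ≫ G.hom = g := ⟨_, rfl⟩
  let r : Spec (CommRingCat.of L) ⟶ pullback G.hom g :=
    pullback.lift u (𝟙 _) (hg.trans (Category.id_comp g).symm)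
  let a : 𝟙_ (Over (Spec (CommRingCat.of L))) ⟶ (Over.pullback g).obj G := Over.homMk r (pullback.lift_snd _ _ _)
  obtain rfl : z = (IsLocalRing.closedPoint L : PrimeSpectrum L) := Subsingleton.elim (α := PrimeSpectrum L) _ _
  have hpa : u (IsLocalRing.closedPoint L) = pullback.fst G.hom g (r (IsLocalRing.closedPoint L)) :=
    (congrArg (fun m => m (IsLocalRing.closedPoint L))
      (pullback.lift_fst u (𝟙 _) (hg.trans (Category.id_comp g).symm))).symm
  rw [hpa] at h₁ h₂
  obtain ⟨η₁, hη₁, hp₁⟩ := Flat.generalizingMap (pullback.fst G.hom g) h₁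
  obtain ⟨η₂, hη₂, hp₂⟩ := Flat.generalizingMap (pullback.fst G.hom g) h₂
  obtain ⟨ω, hω₁, hω₂⟩ := exists_common_generalization_rational (G := (Over.pullback g).obj G) a hη₁ hη₂
  exact ⟨pullback.fst G.hom g ω, hp₁ ▸ hω₁.map (pullback.fst G.hom g).continuous,
    hp₂ ▸ hω₂.map (pullback.fst G.hom g).continuous⟩

/-- In a group scheme over a field two generalisations of a point have a common generalisation. -/
theorem exists_common_generalization (x : G.left) {ξ₁ ξ₂ : G.left} (h₁ : ξ₁ ⤳ x) (h₂ : ξ₂ ⤳ x) :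
    ∃ ω, ω ⤳ ξ₁ ∧ ω ⤳ ξ₂ := by
  obtain ⟨L, _, _, φ, -⟩ : ∃ (L : Type u) (_ : Field L) (_ : IsSepClosed L) (_ : G.left.residueField x →+* L), True :=
    ⟨AlgebraicClosure (G.left.residueField x), inferInstance, inferInstance, algebraMap _ _, trivial⟩
  let z : Spec (CommRingCat.of L) := (IsLocalRing.closedPoint L : PrimeSpectrum L)
  have hx : (Spec.map (CommRingCat.ofHom φ) ≫ G.left.fromSpecResidueField x) z = x := by
    rw [Scheme.Hom.comp_apply]
    exact Scheme.fromSpecResidueField_apply _ _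
  exact exists_common_generalization_geometric _ z (hx.symm ▸ h₁) (hx.symm ▸ h₂)

/-- A point of a group scheme over a field lies in exactly one irreducible component. -/
theorem existsUnique_irreducibleComponent (x : G.left) :
    ∃! Z : Set G.left, Z ∈ irreducibleComponents (G.left : Type u) ∧ x ∈ Z := by
  refine ⟨irreducibleComponent x, ⟨irreducibleComponent_mem_irreducibleComponents x, mem_irreducibleComponent⟩, ?_⟩
  rintro Z ⟨hZ, hxZ⟩
  obtain ⟨ξ, hξ⟩ := QuasiSober.sober hZ.1 (isClosed_of_mem_irreducibleComponents _ hZ)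
  obtain ⟨ξ', hξ'⟩ := QuasiSober.sober (isIrreducible_irreducibleComponent (x := x)) isClosed_irreducibleComponent
  obtain ⟨ω, hω, hω'⟩ := exists_common_generalization x (hξ.specializes hxZ) (hξ'.specializes mem_irreducibleComponent)
  have e : Z = closure {ω} := Set.Subset.antisymm (hξ.def ▸ hω.closure_subset)
    (hZ.2 isIrreducible_singleton.closure (hξ.def ▸ hω.closure_subset))
  have e' : irreducibleComponent x = closure {ω} := Set.Subset.antisymm (hξ'.def ▸ hω'.closure_subset)
    ((irreducibleComponent_mem_irreducibleComponents x).2 isIrreducible_singleton.closure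
      (hξ'.def ▸ hω'.closure_subset))
  rw [e, e']

theorem minimalPrimes_stalk_subsingleton (x : G.left) : (minimalPrimes (G.left.presheaf.stalk x)).Subsingleton := by
  intro q₁ hq₁ q₂ hq₂
  let j := G.left.fromSpecStalk x
  have hle : ∀ q : Ideal (G.left.presheaf.stalk x), q.IsPrime → ∀ p' : PrimeSpectrum (G.left.presheaf.stalk x),
      j p' ⤳ x := by
    intro q _ p'
    exact (Scheme.range_fromSpecStalk (x := x)).le ⟨p', rfl⟩
  let P₁ : Spec (G.left.presheaf.stalk x) := (⟨q₁, hq₁.1.1⟩ : PrimeSpectrum (G.left.presheaf.stalk x))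
  let P₂ : Spec (G.left.presheaf.stalk x) := (⟨q₂, hq₂.1.1⟩ : PrimeSpectrum (G.left.presheaf.stalk x))
  have h₁ : j P₁ ⤳ x := hle q₁ hq₁.1.1 _
  have h₂ : j P₂ ⤳ x := hle q₂ hq₂.1.1 _
  obtain ⟨ω, hω₁, hω₂⟩ := exists_common_generalization x h₁ h₂
  obtain ⟨P, rfl⟩ := (Scheme.range_fromSpecStalk (x := x)).ge (hω₁.trans h₁)
  have l₁ : (P : PrimeSpectrum (G.left.presheaf.stalk x)).asIdeal ≤ q₁ :=
    (PrimeSpectrum.le_iff_specializes P P₁).mpr (j.isEmbedding.isInducing.specializes_iff.mp hω₁)
  have l₂ : (P : PrimeSpectrum (G.left.presheaf.stalk x)).asIdeal ≤ q₂ :=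
    (PrimeSpectrum.le_iff_specializes P P₂).mpr (j.isEmbedding.isInducing.specializes_iff.mp hω₂)
  have hP : (P : PrimeSpectrum (G.left.presheaf.stalk x)).asIdeal.IsPrime := PrimeSpectrum.isPrime _
  exact ((le_antisymm (hq₁.2 ⟨hP, bot_le⟩ l₁) l₁)).trans (le_antisymm (hq₂.2 ⟨hP, bot_le⟩ l₂) l₂).symm

/-- The component through the unit is geometrically irreducible. -/
theorem geometricallyIrreducible_component {Z : Scheme.{u}} (incl : Z ⟶ G.left) [IsClosedImmersion incl]
    (hZ : Set.range incl ∈ irreducibleComponents (G.left : Type u))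
    (he : η[G].left (IsLocalRing.closedPoint K) ∈ Set.range incl) : GeometricallyIrreducible (incl ≫ G.hom) := by
  let L := AlgebraicClosure K
  let g : Spec (CommRingCat.of L) ⟶ Spec (CommRingCat.of K) := Spec.map (CommRingCat.ofHom (algebraMap K L))
  let G' := (Over.pullback g).obj G
  let p : G'.left ⟶ G.left := pullback.fst G.hom g
  haveI : Flat p := inferInstanceAs (Flat (pullback.fst G.hom g))
  haveI : IsIntegralHom g := by
    rw [IsIntegralHom.SpecMap_iff]
    exact fun y => Algebra.IsIntegral.isIntegral y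
  haveI : IsIntegralHom p := inferInstanceAs (IsIntegralHom (pullback.fst G.hom g))
  haveI : IsSepClosed L := inferInstance
  let e : G.left := η[G].left (IsLocalRing.closedPoint K)
  have hηw : η[G].left ≫ G.hom = 𝟙 (Spec (CommRingCat.of K)) := Over.w η[G]
  let a : 𝟙_ (Over (Spec (CommRingCat.of L))) ⟶ G' :=
    Over.homMk (pullback.lift (g ≫ η[G].left) (𝟙 _)
      (by rw [Category.assoc, hηw]; exact (Category.comp_id g).trans (Category.id_comp g).symm)) (pullback.lift_snd _ _ _)
  let e' : G'.left := a.left (IsLocalRing.closedPoint L)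
  have hfib : ∀ z : G'.left, p z = e → z = e' := by
    intro z hz
    have hr : z ∈ Set.range (pullback.map (𝟙 (Spec (CommRingCat.of K))) g G.hom g η[G].left (𝟙 _) (𝟙 _)
        (by rw [hηw, Category.comp_id]) (by simp)) := by
      rw [Scheme.Pullback.range_map]
      exact ⟨⟨IsLocalRing.closedPoint K, hz.symm⟩, ⟨_, rfl⟩⟩
    obtain ⟨w, rfl⟩ := hr
    haveI : Subsingleton ↥(pullback (𝟙 (Spec (CommRingCat.of K))) g) :=
      (pullback.snd (𝟙 (Spec (CommRingCat.of K))) g).homeomorph.injective.subsingleton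
    let c : Spec (CommRingCat.of L) ⟶ pullback (𝟙 (Spec (CommRingCat.of K))) g :=
      pullback.lift g (𝟙 _) (by simp)
    have hc : c ≫ pullback.map (𝟙 (Spec (CommRingCat.of K))) g G.hom g η[G].left (𝟙 _) (𝟙 _)
        (by rw [hηw, Category.comp_id]) (by simp) = pullback.lift (g ≫ η[G].left) (𝟙 _)
        (by rw [Category.assoc, hηw]; exact (Category.comp_id g).trans (Category.id_comp g).symm) := by
      apply pullback.hom_ext
      · simp only [c, Category.assoc, pullback.lift_fst, pullback.lift_fst_assoc]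
      · simp only [c, Category.assoc, pullback.lift_snd, pullback.lift_snd_assoc]
        exact Category.comp_id _
    rw [Subsingleton.elim w (c (IsLocalRing.closedPoint L))]
    exact congrArg (fun m => m (IsLocalRing.closedPoint L)) hc
  have hpe : p e' = e := by
    have h : a.left ≫ p = g ≫ η[G].left := pullback.lift_fst _ _ _
    refine (congrArg (fun m => m (IsLocalRing.closedPoint L)) h).trans ?_
    exact congrArg η[G].left (Subsingleton.elim (α := PrimeSpectrum K) _ _)
  obtain ⟨ξ, hξ⟩ := QuasiSober.sober hZ.1 incl.isClosedEmbedding.isClosed_range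
  obtain ⟨ω, hω⟩ := QuasiSober.sober (isIrreducible_irreducibleComponent (x := e')) isClosed_irreducibleComponent
  have hωe : ω ⤳ e' := hω.specializes mem_irreducibleComponent
  have hmax : ∀ ν, ν ⤳ ω → ω ⤳ ν := fun ν hν => hω.specializes
    (((irreducibleComponent_mem_irreducibleComponents e').2 isIrreducible_singleton.closure
      (hω.def ▸ hν.closure_subset)) (subset_closure rfl))
  have hξmax : ∀ ν, ν ⤳ ξ → ξ ⤳ ν := fun ν hν => hξ.specializes
    ((hZ.2 isIrreducible_singleton.closure (hξ.def ▸ hν.closure_subset)) (subset_closure rfl))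
  have hmem : ∀ z : G'.left, p z ∈ Set.range incl → ω ⤳ z := by
    intro z hz
    obtain ⟨ν, hν, hpν⟩ := Flat.generalizingMap p (hξ.specializes hz)
    obtain ⟨y, hy, hpy⟩ : e ∈ p '' closure {ν} := by
      have h1 : (closure {ξ} : Set G.left) ⊆ p '' closure {ν} :=
        closure_minimal (Set.singleton_subset_iff.mpr ⟨ν, subset_closure rfl, hpν⟩)
          (p.isClosedMap _ isClosed_closure)
      exact h1 (hξ.def ▸ he)
    obtain rfl := hfib y hpy
    obtain ⟨ω', hω'₁, hω'₂⟩ := exists_common_generalization_rational a (specializes_iff_mem_closure.mpr hy) hωe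
    exact ((hmax ω' hω'₂).trans hω'₁).trans hν
  have hωZ : p ω ∈ Set.range incl := by
    have h1 : p ω ⤳ e := hpe ▸ hωe.map p.continuous
    obtain ⟨ν, hν₁, hν₂⟩ := exists_common_generalization e (hξ.specializes he) h1
    exact ((hξmax ν hν₁).trans hν₂).mem_closed incl.isClosedEmbedding.isClosed_range hξ.mem
  let q : pullback (incl ≫ G.hom) g ⟶ G'.left := pullback.map _ _ _ _ incl (𝟙 _) (𝟙 _) (by simp) (by simp)
  have hqr : Set.range q = p ⁻¹' Set.range incl := by
    rw [Scheme.Pullback.range_map]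
    ext z
    simp [p]
  have hirr : IsIrreducible (Set.range q) := by
    have : Set.range q = closure {ω} := by
      rw [hqr]
      exact Set.Subset.antisymm (fun z hz => (hmem z hz).mem_closure)
        (closure_minimal (Set.singleton_subset_iff.mpr hωZ)
          (incl.isClosedEmbedding.isClosed_range.preimage p.continuous))
    rw [this]
    exact isIrreducible_singleton.closure
  haveI : IsClosedImmersion q := by
    have h : q = (pullbackRightPullbackFstIso G.hom g incl).inv ≫ pullback.snd incl (pullback.fst G.hom g) := by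
      apply pullback.hom_ext
      · rw [Category.assoc, pullback.lift_fst, ← pullback.condition, pullbackRightPullbackFstIso_inv_fst_assoc]
      · rw [Category.assoc, pullback.lift_snd, Category.comp_id, pullbackRightPullbackFstIso_inv_snd_snd]
    rw [h]; infer_instance
  haveI : IrreducibleSpace ↥(pullback (incl ≫ G.hom) g) := by
    exact q.isEmbedding.toHomeomorph.irreducibleSpace_iff.mpr (isIrreducible_iff_irreducibleSpace.mp hirr)
  exact geometricallyIrreducible_of_irreducible_pullback (incl ≫ G.hom) L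

end Groth.Agent.GeomIrred
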