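import Mathlib
import Groth.Prelude.Def_CurvBase

/-! The residue field map of a scheme over a field is the structure map. -/

set_option autoImplicit false
universe u

open CategoryTheory CategoryTheory.Limits AlgebraicGeometry

noncomputable section

namespace Groth.Agent.GeomIrred

theorem spec_resMap (k : Type u) [Field k] (X : Scheme.{u}) [X.Over (Spec (CommRingCat.of k))] (x : X) :
    Spec.map (CommRingCat.ofHom (Curv2.resMap k X x)) =
      X.fromSpecResidueField x ≫ (X ↘ Spec (CommRingCat.of k)) := by
  have hf : (X ↘ Spec (CommRingCat.of k)) =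
      X.toSpecΓ ≫ Spec.map ((Scheme.ΓSpecIso (CommRingCat.of k)).inv ≫ (X ↘ Spec (CommRingCat.of k)).appTop) := by
    rw [Spec.map_comp, ← Scheme.toSpecΓ_naturality_assoc, ← SpecMap_ΓSpecIso_hom, ← Spec.map_comp,
      Iso.inv_hom_id, Spec.map_id, Category.comp_id]
  have h : CommRingCat.ofHom (Curv2.resMap k X x) = ((Scheme.ΓSpecIso (CommRingCat.of k)).inv ≫
      (X ↘ Spec (CommRingCat.of k)).appTop) ≫ X.presheaf.germ ⊤ x trivial ≫ X.residue x := by rfl
  rw [hf, h, Spec.map_comp, Spec.map_comp, Scheme.fromSpecResidueField, Category.assoc, Category.assoc,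
    Scheme.fromSpecStalk_toSpecΓ_assoc]

end Groth.Agent.GeomIrred
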