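import Mathlib
import Groth.Agent.ASp.Points
import Groth.Agent.GeomIrred.FinSep

/-! Connectedness of base changes of algebraic spaces to field extensions. -/

set_option autoImplicit false
set_option backward.isDefEq.respectTransparency.types false
universe u v w

open CategoryTheory CategoryTheory.Limits AlgebraicGeometry Topology

noncomputable section

namespace Groth.Agent.GeomIrred

open _root_.AlgSp ASp

theorem isPullback_prod_map_snd {C : Type v} [Category.{w} C] [HasBinaryProducts C] (A : C) {B B' : C} (a : B' ⟶ B) :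
    IsPullback (prod.map (𝟙 A) a) (prod.snd : A ⨯ B' ⟶ B') (prod.snd : A ⨯ B ⟶ B) a := by
  refine IsPullback.of_isLimit' ⟨prod.map_snd _ _⟩
    (PullbackCone.IsLimit.mk _ (fun s => prod.lift (s.fst ≫ prod.fst) s.snd)
    (fun s => ?_) (fun s => prod.lift_snd _ _) (fun s m h1 h2 => ?_))
  · rw [prod.lift_map, Category.comp_id, ← s.condition]
    apply Limits.prod.hom_ext
    · rw [prod.lift_fst]
    · rw [prod.lift_snd]
  · apply Limits.prod.hom_ext
    · rw [prod.lift_fst, ← h1, Category.assoc, prod.map_fst, Category.comp_id]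
    · rw [prod.lift_snd, ← h2]

theorem isPullback_prod_map_fst {C : Type v} [Category.{w} C] [HasBinaryProducts C] {A A' : C} (p : A' ⟶ A) (B : C) :
    IsPullback (prod.fst : A' ⨯ B ⟶ A') (prod.map p (𝟙 B)) p (prod.fst : A ⨯ B ⟶ A) := by
  refine IsPullback.of_isLimit' ⟨(prod.map_fst _ _).symm⟩
    (PullbackCone.IsLimit.mk _ (fun s => prod.lift s.fst (s.snd ≫ prod.snd))
    (fun s => prod.lift_fst _ _) (fun s => ?_) (fun s m h1 h2 => ?_))
  · rw [prod.lift_map, Category.comp_id, s.condition]
    apply Limits.prod.hom_ext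
    · rw [prod.lift_fst]
    · rw [prod.lift_snd]
  · apply Limits.prod.hom_ext
    · rw [prod.lift_fst, ← h1]
    · rw [prod.lift_snd, ← h2, Category.assoc, prod.map_snd, Category.comp_id]

variable {S : Scheme.{u}} {F : Sp S} {U : Over S} (p : (yon S).obj U ⟶ F)

/-- The induced chart of `F × h_T`. -/
def ch (T : Over S) : (yon S).obj (U ⨯ T) ⟶ F ⨯ (yon S).obj T :=
  prodComparison (yon S) U T ≫ prod.map p (𝟙 _)

theorem isPullback_ch (T : Over S) :
    IsPullback ((yon S).map prod.fst) (ch p T) p (prod.fst : F ⨯ (yon S).obj T ⟶ F) := by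
  refine (isPullback_prod_map_fst p ((yon S).obj T)).of_iso (asIso (prodComparison (yon S) U T)).symm
    (Iso.refl _) (Iso.refl _) (Iso.refl _) ?_ ?_ ?_ ?_
  · simp
  · simp [ch]
  · simp
  · simp

theorem isPullback_ch_map {T T' : Over S} (a : T' ⟶ T) :
    IsPullback ((yon S).map (prod.map (𝟙 U) a)) (ch p T') (ch p T)
      (prod.map (𝟙 F) ((yon S).map a)) := by
  refine IsPullback.of_right ?_ ?_ (isPullback_ch p T)
  · have h := isPullback_ch p T'
    convert! h using 1
    · rw [← Functor.map_comp, prod.map_fst, Category.comp_id]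
    · rw [prod.map_fst, Category.comp_id]
  · apply prod.hom_ext
    · simp only [ch, Category.assoc, prod.map_fst, Category.comp_id, prodComparison_fst_assoc,
        ← Functor.map_comp_assoc]
    · simp only [ch, Category.assoc, prod.map_snd, Category.comp_id, prodComparison_snd, prodComparison_snd_assoc,
        ← Functor.map_comp, prod.map_snd_assoc, Category.id_comp]

variable {p}
variable (hp : RepWith @Etale p) (hs : RepWith @Surjective p)

include hp hs

theorem surjective_ofPt_ch (T : Over S) : Function.Surjective (Points.ofPt (ch p T)) :=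
  surjective_ofPt (repWith_of_isPullback (isPullback_ch p T) hs)

theorem isQuotientMap_ch (T : Over S) : IsQuotientMap (Points.ofPt (ch p T)) :=
  isQuotientMap_ofPt (repWith_of_isPullback (isPullback_ch p T) hp) (repWith_of_isPullback (isPullback_ch p T) hs)

theorem isPullback_left_prod {T T' : Over S} (a : T' ⟶ T) :
    IsPullback (prod.map (𝟙 U) a).left (prod.snd : U ⨯ T' ⟶ T').left (prod.snd : U ⨯ T ⟶ T).left a.left :=
  ASp.isPullback_left (isPullback_prod_map_snd U a)

theorem surjective_map_prod {T T' : Over S} (a : T' ⟶ T) [Surjective a.left] :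
    Function.Surjective (Points.map (prod.map (𝟙 F) ((yon S).map a))) := by
  intro y
  obtain ⟨v, rfl⟩ := surjective_ofPt_ch hp hs T y
  haveI : Surjective (prod.map (𝟙 U) a).left :=
    MorphismProperty.of_isPullback (P := @Surjective) (isPullback_left_prod hp hs a).flip ‹_›
  obtain ⟨v', rfl⟩ := (prod.map (𝟙 U) a).left.surjective v
  exact ⟨Points.ofPt (ch p T') v', by
    rw [Points.map_ofPt, ← (isPullback_ch_map p a).w, ofPt_yon_map_comp]⟩

theorem isOpenMap_map_prod {T T' : Over S} (a : T' ⟶ T) [UniversallyOpen a.left] :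
    IsOpenMap (Points.map (prod.map (𝟙 F) ((yon S).map a))) := by
  intro W hW
  haveI : UniversallyOpen (prod.map (𝟙 U) a).left :=
    MorphismProperty.of_isPullback (P := @UniversallyOpen) (isPullback_left_prod hp hs a).flip ‹_›
  rw [← (isQuotientMap_ch hp hs T).isOpen_preimage, preimage_ofPt_image (isPullback_ch_map p a).flip]
  exact (prod.map (𝟙 U) a).left.isOpenMap _ (hW.preimage (Points.continuous_ofPt _))

theorem isClosedMap_map_prod {T T' : Over S} (a : T' ⟶ T) [UniversallyClosed a.left] :
    IsClosedMap (Points.map (prod.map (𝟙 F) ((yon S).map a))) := by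
  intro W hW
  haveI : UniversallyClosed (prod.map (𝟙 U) a).left :=
    MorphismProperty.of_isPullback (P := @UniversallyClosed) (isPullback_left_prod hp hs a).flip ‹_›
  rw [← (isQuotientMap_ch hp hs T).isClosed_preimage, preimage_ofPt_image (isPullback_ch_map p a).flip]
  exact (prod.map (𝟙 U) a).left.isClosedMap _ (hW.preimage (Points.continuous_ofPt _))

theorem isConnected_fibre_map_prod {T T' : Over S} (a : T' ⟶ T) [GeometricallyConnected a.left]
    (y : Points (F ⨯ (yon S).obj T)) :
    _root_.IsConnected (Points.map (prod.map (𝟙 F) ((yon S).map a)) ⁻¹' {y}) := by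
  obtain ⟨v, rfl⟩ := surjective_ofPt_ch hp hs T y
  haveI : GeometricallyConnected (prod.map (𝟙 U) a).left :=
    MorphismProperty.of_isPullback (P := @GeometricallyConnected) (isPullback_left_prod hp hs a).flip ‹_›
  have h : Points.map (prod.map (𝟙 F) ((yon S).map a)) ⁻¹' {Points.ofPt (ch p T) v} =
      Points.ofPt (ch p T') '' ((prod.map (𝟙 U) a).left ⁻¹' {v}) := by
    ext z
    constructor
    · intro hz
      obtain ⟨c, hc1, hc2⟩ := points_exists_of_isPullback (isPullback_ch_map p a)
        (Points.ofScheme _ v) z (by rw [← Points.ofPt_eq_map_ofScheme]; exact hz.symm)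
      obtain ⟨w, rfl⟩ := (Points.schemeHomeo (U ⨯ T')).surjective c
      rw [Points.map_yon_map_apply] at hc1
      refine ⟨w, (Points.schemeHomeo (U ⨯ T)).injective hc1, ?_⟩
      rw [Points.ofPt_eq_map_ofScheme]
      exact hc2
    · rintro ⟨w, hw, rfl⟩
      show Points.map _ (Points.ofPt (ch p T') w) = _
      rw [Points.map_ofPt, ← (isPullback_ch_map p a).w, ofPt_yon_map_comp, hw]
  rw [h]
  exact ((prod.map (𝟙 U) a).left.isConnected_preimage_singleton v).image _ (Points.continuous_ofPt _).continuousOn

theorem connectedSpace_prod {T T' : Over S} (a : T' ⟶ T) [GeometricallyConnected a.left] [UniversallyOpen a.left]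
    [hc : ConnectedSpace (Points (F ⨯ (yon S).obj T))] : ConnectedSpace (Points (F ⨯ (yon S).obj T')) := by
  let q := Points.map (prod.map (𝟙 F) ((yon S).map a))
  have hq : IsCoinducing q :=
    ((isOpenMap_map_prod hp hs a).isQuotientMap (Points.continuous_map _) (surjective_map_prod hp hs a)).isCoinducing
  rw [connectedSpace_iff_univ, ← Set.preimage_univ (f := q)]
  exact hq.isConnected_preimage_of_isClosed (isConnected_fibre_map_prod hp hs a) isClosed_univ isConnected_univ

omit hp hs in
theorem connectedSpace_of_surjective_map {G G' : Sp S} (q : G' ⟶ G) (hq : Function.Surjective (Points.map q))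
    (h : ConnectedSpace (Points G')) : ConnectedSpace (Points G) :=
  hq.connectedSpace (Points.continuous_map q)

section Field

variable {k : Type u} [Field k]

/-- `Spec` of an extension as an object over `Spec k`. -/
abbrev ext (L : Type u) [Field L] [Algebra k L] : Over (Spec (CommRingCat.of k)) :=
  Over.mk (Spec.map (CommRingCat.ofHom (algebraMap k L)))

/-- The map of field extensions. -/
abbrev extMap {L M : Type u} [Field L] [Field M] [Algebra k L] [Algebra k M] (a : L →ₐ[k] M) :
    ext (k := k) M ⟶ ext L :=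
  Over.homMk (Spec.map (CommRingCat.ofHom a.toRingHom)) (specMap_comp a)

omit hp hs in
theorem extMap_props {L M : Type u} [Field L] [Field M] [Algebra k L] [Algebra k M] (a : L →ₐ[k] M) :
    Surjective (extMap a).left ∧ UniversallyOpen (extMap a).left ∧
      (Algebra.IsAlgebraic k M → UniversallyClosed (extMap a).left) ∧
      (IsSepClosed L → GeometricallyConnected (extMap a).left) := by
  refine ⟨⟨fun _ => ⟨IsLocalRing.closedPoint M, Subsingleton.elim (α := PrimeSpectrum L) _ _⟩⟩,
    ?_, fun halg => ?_, fun hL => ?_⟩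
  · show UniversallyOpen (Spec.map (CommRingCat.ofHom a.toRingHom))
    infer_instance
  · haveI : IsIntegralHom (Spec.map (CommRingCat.ofHom a.toRingHom)) := by
      rw [IsIntegralHom.SpecMap_iff]
      intro x
      exact RingHom.IsIntegral.tower_top (algebraMap k L) a.toRingHom
        (by rw [AlgHom.toRingHom_eq_coe, AlgHom.comp_algebraMap]
            exact fun y => (halg.isAlgebraic y).isIntegral) x
    show UniversallyClosed (Spec.map (CommRingCat.ofHom a.toRingHom))
    infer_instance
  · letI := a.toRingHom.toAlgebra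
    haveI := geometricallyIrreducible_field (k := L) M
    exact geometricallyConnected_of_geometricallyIrreducible (Spec.map (CommRingCat.ofHom (algebraMap L M)))

omit hp hs in
theorem exists_common_extension (L M : Type u) [Field L] [Algebra k L] [Field M] [Algebra k M] :
    ∃ (Ω : Type u) (_ : Field Ω) (_ : Algebra k Ω), Nonempty (L →ₐ[k] Ω) ∧ Nonempty (M →ₐ[k] Ω) := by
  obtain ⟨Ω, _, i, j, hij⟩ := FieldPt.exists_amalgamation (algebraMap k L) (algebraMap k M)
  letI := (i.comp (algebraMap k L)).toAlgebra
  exact ⟨Ω, inferInstance, inferInstance, ⟨{ i with commutes' := fun _ => rfl }⟩,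
    ⟨{ j with commutes' := fun c => (RingHom.congr_fun hij c).symm }⟩⟩

variable (X : Space (Spec (CommRingCat.of k)))

omit hp hs in
theorem connectedSpace_of_extension {L M : Type u} [Field L] [Field M] [Algebra k L] [Algebra k M] (a : L →ₐ[k] M)
    (h : ConnectedSpace (Points (X.obj ⨯ (yon _).obj (ext (k := k) M)))) :
    ConnectedSpace (Points (X.obj ⨯ (yon _).obj (ext (k := k) L))) := by
  obtain ⟨U, p, hp, hs⟩ := X.property.atlas
  haveI := (extMap_props a).1
  exact connectedSpace_of_surjective_map _ (surjective_map_prod hp hs (extMap a)) h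

omit hp hs in
theorem connectedSpace_of_sepClosed (L : Type u) [Field L] [Algebra k L] [IsSepClosed L]
    (h : ConnectedSpace (Points (X.obj ⨯ (yon _).obj (ext (k := k) L))))
    (K : Type u) [Field K] [Algebra k K] : ConnectedSpace (Points (X.obj ⨯ (yon _).obj (ext (k := k) K))) := by
  obtain ⟨U, p, hp, hs⟩ := X.property.atlas
  obtain ⟨Ω, _, _, ⟨i⟩, ⟨j⟩⟩ := exists_common_extension (k := k) L K
  haveI := (extMap_props i).2.1
  haveI := (extMap_props i).2.2.2 inferInstance
  exact connectedSpace_of_extension X j (connectedSpace_prod hp hs (extMap i))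

omit hp hs in
theorem connectedSpace_of_finite (K : Type u) [Field K] [Algebra k K] [Algebra.IsAlgebraic k K]
    (h : ∀ L : IntermediateField k K, FiniteDimensional k L →
      ConnectedSpace (Points (X.obj ⨯ (yon _).obj (ext (k := k) L)))) :
    ConnectedSpace (Points (X.obj ⨯ (yon _).obj (ext (k := k) K))) := by
  obtain ⟨U, p, hp, hs⟩ := X.property.atlas
  let eL : ∀ (L : Type u) [Field L] [Algebra k L], (U ⨯ ext (k := k) L).left ≅ bcs U.hom L :=
    fun L _ _ => Over.prodLeftIsoPullback U (ext L)
  haveI := h ⊥ inferInstance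
  haveI : Nonempty (Points (X.obj ⨯ (yon _).obj (ext (k := k) K))) := by
    haveI := (extMap_props (⊥ : IntermediateField k K).val).1
    exact (surjective_map_prod hp hs (extMap (⊥ : IntermediateField k K).val) (Classical.arbitrary _)).nonempty
  haveI : PreconnectedSpace (Points (X.obj ⨯ (yon _).obj (ext (k := k) K))) := by
    refine preconnectedSpace_iff_clopen.mpr fun A hA => ?_
    by_contra! hne
    obtain ⟨x, hx⟩ := hne.1
    obtain ⟨v, rfl⟩ := surjective_ofPt_ch hp hs _ x
    let A₀ : (bcs U.hom K).Opens :=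
      ⟨(eL K).inv ⁻¹' (Points.ofPt (ch p (ext K)) ⁻¹' A),
        (hA.2.preimage (Points.continuous_ofPt _)).preimage (eL K).inv.continuous⟩
    have hA₀ : (A₀ : Set (bcs U.hom K)).Nonempty := by
      refine ⟨(eL K).hom v, ?_⟩
      show (eL K).inv ((eL K).hom v) ∈ Points.ofPt (ch p (ext K)) ⁻¹' A
      rw [← Scheme.Hom.comp_apply, Iso.hom_inv_id]
      exact hx
    obtain ⟨L, U', hL, -, ⟨u', hu'⟩, hsub⟩ := exists_finite_preimage_subset U.hom K A₀ hA₀
    let a := extMap L.val
    obtain ⟨h1, h2, h3, -⟩ := extMap_props L.val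
    haveI := h1
    haveI := h2
    haveI := h3 inferInstance
    haveI := h L hL
    let q := Points.map (prod.map (𝟙 X.obj) ((yon _).map a))
    have hB : q '' Aᶜ = Set.univ :=
      IsClopen.eq_univ ⟨isClosedMap_map_prod hp hs a _ hA.compl.1, isOpenMap_map_prod hp hs a _ hA.compl.2⟩
        ((Set.nonempty_compl.mpr hne.2).image _)
    obtain ⟨z, hz, hzu⟩ : Points.ofPt (ch p (ext L)) ((eL L).inv u') ∈ q '' Aᶜ := by rw [hB]; trivial
    obtain ⟨c, hc1, hc2⟩ := points_exists_of_isPullback (isPullback_ch_map p a)
      (Points.ofScheme _ ((eL L).inv u')) z (by rw [← Points.ofPt_eq_map_ofScheme]; exact hzu.symm)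
    obtain ⟨w, rfl⟩ := (Points.schemeHomeo (U ⨯ ext (k := k) K)).surjective c
    rw [Points.map_yon_map_apply] at hc1
    have hw : (prod.map (𝟙 U) a).left w = (eL L).inv u' := (Points.schemeHomeo _).injective hc1
    have hcomm : (prod.map (𝟙 U) a).left ≫ (eL L).hom = (eL K).hom ≫ trans U.hom L.val := by
      have f1 : ∀ (M : Type u) [Field M] [Algebra k M], (eL M).hom ≫ pullback.fst _ _ =
          (prod.fst : U ⨯ ext (k := k) M ⟶ U).left := fun M _ _ => Over.prodLeftIsoPullback_hom_fst U (ext M)
      have f2 : ∀ (M : Type u) [Field M] [Algebra k M], (eL M).hom ≫ pullback.snd _ _ =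
          (prod.snd : U ⨯ ext (k := k) M ⟶ ext M).left := fun M _ _ => Over.prodLeftIsoPullback_hom_snd U (ext M)
      apply pullback.hom_ext
      · rw [Category.assoc, Category.assoc, f1, trans, pullback.lift_fst,
          Category.comp_id, f1, ← Over.comp_left, prod.map_fst, Category.comp_id]
      · rw [Category.assoc, Category.assoc, f2, trans, pullback.lift_snd,
          ← Category.assoc, f2, ← Over.comp_left, prod.map_snd]
        rfl
    have hmem : trans U.hom L.val ((eL K).hom w) ∈ U' := by
      rw [← Scheme.Hom.comp_apply, ← hcomm, Scheme.Hom.comp_apply, hw, ← Scheme.Hom.comp_apply, Iso.inv_hom_id]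
      exact hu'
    have h4 : (eL K).inv ((eL K).hom w) ∈ Points.ofPt (ch p (ext K)) ⁻¹' A := hsub hmem
    rw [← Scheme.Hom.comp_apply, Iso.hom_inv_id] at h4
    apply hz
    rw [← hc2]
    change Points.map (ch p (ext K)) (Points.ofScheme _ w) ∈ A
    rw [← Points.ofPt_eq_map_ofScheme]
    exact h4
  exact ⟨inferInstance⟩

end Field

end Groth.Agent.GeomIrred
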