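import Groth.Agent.GeomIrred.FinSep
import Groth.Agent.UnivHomeo.Basic

/-! Clopens of a base change to an algebraic closure descend to a finite separable extension. -/

set_option autoImplicit false
universe u

open CategoryTheory CategoryTheory.Limits AlgebraicGeometry TensorProduct

noncomputable section

namespace Groth.Agent.GeomIrred

variable {k : Type u} [Field k] {X : Scheme.{u}} (f : X ⟶ Spec (CommRingCat.of k))
  (K : Type u) [Field K] [Algebra k K] [Algebra.IsAlgebraic k K]

/-- Every point of an open set of the base change has a neighbourhood inside it coming from a finite level. -/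
theorem exists_finite_nhd (U : (bcs f K).Opens) (x : bcs f K) (hx : x ∈ U) :
    ∃ (L : IntermediateField k K) (U' : Set (bcs f L)), FiniteDimensional k L ∧ IsOpen U' ∧
      trans f L.val x ∈ U' ∧ trans f L.val ⁻¹' U' ⊆ U := by
  obtain ⟨R, j, hopen, hxj⟩ : ∃ (R : CommRingCat.{u}) (j : Spec R ⟶ X), IsOpenImmersion j ∧
      pullback.fst f _ x ∈ Set.range j := by
    obtain ⟨i, y, hy⟩ := X.affineCover.exists_eq (pullback.fst f _ x)
    refine ⟨Γ(X.affineCover.X i, ⊤), (X.affineCover.X i).isoSpec.inv ≫ X.affineCover.f i, inferInstance,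
      (X.affineCover.X i).isoSpec.hom y, ?_⟩
    rw [← hy, ← Scheme.Hom.comp_apply, Iso.hom_inv_id_assoc]
  obtain ⟨φ, hφ⟩ := Spec.map_surjective (j ≫ f)
  letI : Algebra k R := φ.hom.toAlgebra
  have hj : j ≫ f = Spec.map (CommRingCat.ofHom (algebraMap k R)) := hφ.symm
  obtain ⟨v, hv⟩ := mem_range_piece j hj K x hxj
  obtain ⟨-, ⟨s, rfl⟩, hvs, hsU⟩ := PrimeSpectrum.isTopologicalBasis_basic_opens.exists_subset_of_mem_open
    (show v ∈ piece j hj K ⁻¹' (U : Set (bcs f K)) by simpa [hv] using hx) (U.2.preimage (piece j hj K).continuous)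
  obtain ⟨L, hL, s', rfl⟩ := exists_finite_mem_range s
  let μ : R ⊗[k] L →ₐ[k] R ⊗[k] K := Algebra.TensorProduct.map (AlgHom.id k R) L.val
  refine ⟨L, piece j hj L '' (PrimeSpectrum.basicOpen s' : Set (PrimeSpectrum (R ⊗[k] L))), hL,
    (piece j hj L).isOpenEmbedding.isOpenMap _ PrimeSpectrum.isOpen_basicOpen,
    ⟨Spec.map (CommRingCat.ofHom μ.toRingHom) v, ?_, ?_⟩, ?_⟩
  · exact hvs
  · rw [← hv, ← Scheme.Hom.comp_apply, ← Scheme.Hom.comp_apply, piece_trans]
  rintro z ⟨w, hw, hwz⟩
  have hzj : pullback.fst f _ z ∈ Set.range j := by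
    refine ⟨Spec.map (CommRingCat.ofHom Algebra.TensorProduct.includeLeftRingHom) w, ?_⟩
    have h1 : pullback.fst f _ (trans f L.val z) = pullback.fst f _ z := by
      rw [← Scheme.Hom.comp_apply, trans, pullback.lift_fst, Category.comp_id]
    rw [← h1, ← hwz, ← Scheme.Hom.comp_apply (piece j hj L), piece_fst]
    rfl
  obtain ⟨v', rfl⟩ := mem_range_piece j hj K z hzj
  apply hsU
  have h2 : Spec.map (CommRingCat.ofHom μ.toRingHom) v' = w := (piece j hj L).isOpenEmbedding.injective (by
    rw [hwz, ← Scheme.Hom.comp_apply, ← Scheme.Hom.comp_apply, piece_trans])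
  rw [← h2] at hw
  exact hw

/-- Clopens of the base change come from a finite level. -/
theorem exists_finite_clopen [CompactSpace X] (C : Set (bcs f K)) (hC : IsClopen C) :
    ∃ (L : IntermediateField k K) (A : Set (bcs f L)), FiniteDimensional k L ∧ IsClopen A ∧
      trans f L.val ⁻¹' A = C := by
  classical
  haveI : CompactSpace (bcs f K) := QuasiCompact.compactSpace_of_compactSpace (pullback.fst f _)
  have hex : ∀ x : bcs f K, ∃ (L : IntermediateField k K) (U' : Set (bcs f L)), FiniteDimensional k L ∧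
      IsOpen U' ∧ trans f L.val x ∈ U' ∧
        (trans f L.val ⁻¹' U' ⊆ C ∨ trans f L.val ⁻¹' U' ⊆ Cᶜ) := fun x => by
    by_cases hx : x ∈ C
    · obtain ⟨L, U', h1, h2, h3, h4⟩ := exists_finite_nhd f K ⟨C, hC.2⟩ x hx
      exact ⟨L, U', h1, h2, h3, .inl h4⟩
    · obtain ⟨L, U', h1, h2, h3, h4⟩ := exists_finite_nhd f K ⟨Cᶜ, hC.compl.2⟩ x hx
      exact ⟨L, U', h1, h2, h3, .inr h4⟩
  choose L U' hfin hopen hmem hsub using hex
  obtain ⟨t, ht⟩ := (isCompact_univ (X := bcs f K)).elim_finite_subcover (fun x => trans f (L x).val ⁻¹' U' x)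
    (fun x => (hopen x).preimage (trans f (L x).val).continuous) fun x _ => Set.mem_iUnion.2 ⟨x, hmem x⟩
  let M : IntermediateField k K := ⨆ x : t, L x
  haveI : FiniteDimensional k M := by
    haveI := fun x : t => hfin x
    exact IntermediateField.finiteDimensional_iSup_of_finite
  obtain ⟨-, ho, hc⟩ := trans_props f M.val
  haveI := ho
  haveI := hc inferInstance
  refine ⟨M, trans f M.val '' C, inferInstance,
    ⟨(trans f M.val).isClosedMap _ hC.1, (trans f M.val).isOpenMap _ hC.2⟩, ?_⟩
  refine Set.Subset.antisymm (fun z hz => ?_) (Set.subset_preimage_image _ _)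
  obtain ⟨z₀, hz₀, he⟩ := hz
  obtain ⟨x, hx⟩ := Set.mem_iUnion.1 (ht (Set.mem_univ z₀))
  obtain ⟨hxt, hx⟩ := Set.mem_iUnion.1 hx
  have hle : L x ≤ M := le_iSup (fun x : t => L x) ⟨x, hxt⟩
  have hz' : trans f (L x).val z₀ = trans f (L x).val z := by
    have h := congrArg (trans f (IntermediateField.inclusion hle)) he
    rw [← Scheme.Hom.comp_apply, ← Scheme.Hom.comp_apply, trans_comp] at h
    exact h
  rcases hsub x with h | h
  · exact h (show trans f (L x).val z ∈ U' x from hz' ▸ hx)
  · exact absurd hz₀ (h hx)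

theorem universallyInjective_specMap (L M : Type u) [Field L] [Field M] [Algebra L M] [IsPurelyInseparable L M] :
    UniversallyInjective (Spec.map (CommRingCat.ofHom (algebraMap L M))) := by
  refine ((tfae_universallyInjective _).out 0 1).2 ?_
  intro F iF g₁ g₂ h
  obtain ⟨a, rfl⟩ := Spec.map_surjective g₁
  obtain ⟨b, rfl⟩ := Spec.map_surjective g₂
  have h' : Spec.map (CommRingCat.ofHom (algebraMap L M) ≫ a) = Spec.map (CommRingCat.ofHom (algebraMap L M) ≫ b) := by
    rw [Spec.map_comp, Spec.map_comp]; exact h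
  exact congrArg Spec.map (CommRingCat.hom_ext (IsPurelyInseparable.injective_comp_algebraMap L M F
    (congrArg CommRingCat.Hom.hom (Spec.map_injective h'))))

/-- Clopens of the base change to an algebraic closure come from a finite separable level. -/
theorem exists_separable_clopen [CompactSpace X] (C : Set (bcs f (AlgebraicClosure k))) (hC : IsClopen C) :
    ∃ (L : Type u) (_ : Field L) (_ : Algebra k L) (_ : FiniteDimensional k L) (_ : Algebra.IsSeparable k L)
      (a : L →ₐ[k] AlgebraicClosure k) (A : Set (bcs f L)), IsClopen A ∧ trans f a ⁻¹' A = C := by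
  let b : separableClosure k (AlgebraicClosure k) →ₐ[k] AlgebraicClosure k :=
    (separableClosure k (AlgebraicClosure k)).val
  have hpb := isPullback_trans f b
  haveI : UniversallyInjective (trans f b) :=
    MorphismProperty.of_isPullback hpb.flip
      (universallyInjective_specMap (separableClosure k (AlgebraicClosure k)) (AlgebraicClosure k))
  haveI : IsIntegralHom (Spec.map (CommRingCat.ofHom b.toRingHom)) := by
    rw [IsIntegralHom.SpecMap_iff]
    exact fun x => Algebra.IsIntegral.isIntegral (R := separableClosure k (AlgebraicClosure k)) x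
  haveI : IsIntegralHom (trans f b) := MorphismProperty.of_isPullback hpb.flip inferInstance
  haveI := (trans_props f b).1
  let e := (Groth.Agent.UnivHomeo.isHomeomorph (Groth.Agent.UnivHomeo.of_isIntegralHom (trans f b))).homeomorph
  have he : IsClopen (e.symm ⁻¹' C) := hC.preimage e.symm.continuous
  obtain ⟨L, A, hL, hA, hAC⟩ := exists_finite_clopen f (separableClosure k (AlgebraicClosure k))
    (e.symm ⁻¹' C) he
  refine ⟨L, inferInstance, inferInstance, hL, inferInstance, b.comp L.val, A, hA, ?_⟩
  rw [← trans_comp f L.val b]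
  ext z
  show trans f b z ∈ trans f L.val ⁻¹' A ↔ z ∈ C
  rw [hAC]
  show e.symm (e z) ∈ C ↔ z ∈ C
  rw [e.symm_apply_apply]

end Groth.Agent.GeomIrred
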