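import Mathlib
import Groth.Agent.GeomIrred.Point

/-! Connected closed subsets with connected preimage after base change; images. -/

set_option autoImplicit false
universe u

open CategoryTheory CategoryTheory.Limits AlgebraicGeometry TensorProduct

noncomputable section

namespace Groth.Agent.GeomIrred

variable {k : Type u} [Field k] {X : Scheme.{u}} (f : X ⟶ Spec (CommRingCat.of k))

theorem range_map_of_comp {C : Scheme.{u}} (i : C ⟶ X) (K : Type u) [Field K] [Algebra k K] :
    Set.range (pullback.map (i ≫ f) (Spec.map (CommRingCat.ofHom (algebraMap k K))) f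
      (Spec.map (CommRingCat.ofHom (algebraMap k K))) i (𝟙 _) (𝟙 _) (by simp) (by simp)) =
    pullback.fst f (Spec.map (CommRingCat.ofHom (algebraMap k K))) ⁻¹' Set.range i := by
  rw [Scheme.Pullback.range_map]
  ext z
  simp

theorem isClosedImmersion_map_of_comp {C : Scheme.{u}} (i : C ⟶ X) [IsClosedImmersion i] {S : Scheme.{u}}
    (f : X ⟶ S) {T : Scheme.{u}} (g : T ⟶ S) :
    IsClosedImmersion (pullback.map (i ≫ f) g f g i (𝟙 _) (𝟙 _) (by simp) (by simp)) := by
  have h : pullback.map (i ≫ f) g f g i (𝟙 _) (𝟙 _) (by simp) (by simp) =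
      (pullbackRightPullbackFstIso f g i).inv ≫ pullback.snd i (pullback.fst f g) := by
    apply pullback.hom_ext
    · simp only [Category.assoc, pullback.lift_fst, ← pullback.condition, pullbackRightPullbackFstIso_inv_fst_assoc]
    · simp only [Category.assoc, pullback.lift_snd, Category.comp_id, pullbackRightPullbackFstIso_inv_snd_snd]
  rw [h]; infer_instance

/-- A connected scheme is geometrically connected once, for each finite separable extension, the fibre over
some point lies in a connected subset. -/
theorem geometricallyConnected_of_connected_subset [ConnectedSpace X] (x : X)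
    (h : ∀ (L : Type u) [Field L] [Algebra k L] [FiniteDimensional k L] [Algebra.IsSeparable k L],
      ∃ S : Set (bcs f L), _root_.IsPreconnected S ∧ pullback.fst f _ ⁻¹' {x} ⊆ S) :
    GeometricallyConnected f := by
  refine geometricallyConnected_of_finite_separable f fun L _ _ _ _ => ?_
  let p := pullback.fst f (Spec.map (CommRingCat.ofHom (algebraMap k L)))
  haveI : IsIntegralHom (Spec.map (CommRingCat.ofHom (algebraMap k L))) := by
    rw [IsIntegralHom.SpecMap_iff]
    exact fun y => Algebra.IsIntegral.isIntegral y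
  haveI := surjective_specMap_field k L
  haveI : Nonempty (bcs f L) := ⟨((inferInstance : Surjective p).surj x).choose⟩
  obtain ⟨S, hS, hxS⟩ := h L
  haveI : PreconnectedSpace (bcs f L) := by
    refine preconnectedSpace_iff_clopen.mpr fun A hA => ?_
    by_contra! hne
    have key : ∀ B : Set (bcs f L), IsClopen B → B.Nonempty → (S ∩ B).Nonempty := by
      intro B hB hBn
      have h1 : p '' B = Set.univ :=
        IsClopen.eq_univ ⟨p.isClosedMap _ hB.1, p.isOpenMap _ hB.2⟩ (hBn.image _)
      obtain ⟨z, hz, hzx⟩ : x ∈ p '' B := by rw [h1]; trivial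
      exact ⟨z, hxS hzx, hz⟩
    obtain ⟨z, hzS, hz⟩ := key Aᶜ hA.compl (Set.nonempty_compl.mpr hne.2)
    exact hz (hS.subset_isClopen hA (key A hA hne.1) hzS)
  exact ⟨inferInstance⟩

theorem isConnected_preimage_of_subset {C Y : Set X} (hCc : IsClosed C) (hC : _root_.IsConnected C) (hYC : Y ⊆ C)
    (hYne : Y.Nonempty)
    (hY : ∀ (L : Type u) [Field L] [Algebra k L] [FiniteDimensional k L] [Algebra.IsSeparable k L],
      _root_.IsPreconnected (pullback.fst f (Spec.map (CommRingCat.ofHom (algebraMap k L))) ⁻¹' Y))
    (K : Type u) [Field K] [Algebra k K] :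
    _root_.IsConnected (pullback.fst f (Spec.map (CommRingCat.ofHom (algebraMap k K))) ⁻¹' C) := by
  obtain ⟨Z, i, _, hi⟩ : ∃ (Z : Scheme.{u}) (i : Z ⟶ X), IsClosedImmersion i ∧ Set.range i = C :=
    ⟨_, (Scheme.IdealSheafData.vanishingIdeal ⟨C, hCc⟩).subschemeι, inferInstance, by
      rw [Scheme.IdealSheafData.range_subschemeι, Scheme.IdealSheafData.coe_support_vanishingIdeal]; rfl⟩
  subst hi
  haveI : ConnectedSpace Z := by
    haveI := isConnected_iff_connectedSpace.mp hC
    exact i.isEmbedding.toHomeomorph.connectedSpace_iff.mpr ‹_›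
  obtain ⟨y, hy⟩ := hYne
  obtain ⟨z, rfl⟩ := hYC hy
  haveI : GeometricallyConnected (i ≫ f) := by
    refine geometricallyConnected_of_connected_subset (i ≫ f) z fun L _ _ _ _ => ?_
    let j := pullback.map (i ≫ f) (Spec.map (CommRingCat.ofHom (algebraMap k L))) f
      (Spec.map (CommRingCat.ofHom (algebraMap k L))) i (𝟙 _) (𝟙 _) (by simp) (by simp)
    haveI : IsClosedImmersion j := isClosedImmersion_map_of_comp i f _
    refine ⟨j ⁻¹' (pullback.fst f _ ⁻¹' Y),
      (hY L).preimage_of_isClosedMap j.isClosedEmbedding.injective j.isClosedEmbedding.isClosedMap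
        (by rw [range_map_of_comp]; exact Set.preimage_mono hYC), fun w hw => ?_⟩
    show pullback.fst f _ (j w) ∈ Y
    have : pullback.fst f _ (j w) = i (pullback.fst (i ≫ f) _ w) := by
      rw [← Scheme.Hom.comp_apply, pullback.lift_fst, Scheme.Hom.comp_apply]
    rw [this, Set.mem_preimage.mp hw |> Set.mem_singleton_iff.mp]
    exact hy
  let j := pullback.map (i ≫ f) (Spec.map (CommRingCat.ofHom (algebraMap k K))) f
    (Spec.map (CommRingCat.ofHom (algebraMap k K))) i (𝟙 _) (𝟙 _) (by simp) (by simp)
  haveI : ConnectedSpace ↥(bcs (i ≫ f) K) :=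
    pullback_of_geometrically (‹GeometricallyConnected (i ≫ f)›).geometrically_connectedSpace _ _
  rw [← range_map_of_comp f i K]
  exact isConnected_range j.continuous

theorem geometricallyIrreducible_of_surjective_source {Y : Scheme.{u}} (g : Y ⟶ Spec (CommRingCat.of k))
    (h : X ⟶ Y) (w : h ≫ g = f) [Surjective h] [hf : GeometricallyIrreducible f] : GeometricallyIrreducible g := by
  refine ⟨(geometrically_iff_of_commRing_of_isClosedUnderIsomorphisms (P := (IrreducibleSpace ·))).mpr fun K _ _ => ?_⟩
  let gK := Spec.map (CommRingCat.ofHom (algebraMap k K))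
  let q : pullback f gK ⟶ pullback g gK := pullback.map _ _ _ _ h (𝟙 _) (𝟙 _) (by simp [w]) (by simp)
  haveI : IrreducibleSpace ↥(pullback f gK) := pullback_of_geometrically hf.geometrically_irreducibleSpace _ _
  have hq : Set.range q = Set.univ := by
    rw [Scheme.Pullback.range_map, Set.range_eq_univ.mpr h.surjective]
    simp
  rw [irreducibleSpace_def, Set.top_eq_univ, ← hq, ← Set.image_univ]
  exact (IrreducibleSpace.isIrreducible_univ _).image _ q.continuous.continuousOn

theorem geometricallyConnected_of_surjective_source {Y : Scheme.{u}} (g : Y ⟶ Spec (CommRingCat.of k))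
    (h : X ⟶ Y) (w : h ≫ g = f) [Surjective h] [hf : GeometricallyConnected f] : GeometricallyConnected g := by
  refine ⟨(geometrically_iff_of_commRing_of_isClosedUnderIsomorphisms (P := (ConnectedSpace ·))).mpr fun K _ _ => ?_⟩
  let gK := Spec.map (CommRingCat.ofHom (algebraMap k K))
  let q : pullback f gK ⟶ pullback g gK := pullback.map _ _ _ _ h (𝟙 _) (𝟙 _) (by simp [w]) (by simp)
  have hq : Set.range q = Set.univ := by
    rw [Scheme.Pullback.range_map, Set.range_eq_univ.mpr h.surjective]
    simp
  exact connectedSpace_of_surjective q (Set.range_eq_univ.mp hq) (pullback_of_geometrically hf.geometrically_connectedSpace _ _)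

end Groth.Agent.GeomIrred
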