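import Mathlib
import Groth.Agent.GeomIrred.Connected

/-! Geometric irreducibility, connectedness and integrality of algebras. -/

set_option autoImplicit false
universe u

open CategoryTheory CategoryTheory.Limits AlgebraicGeometry TensorProduct

noncomputable section

namespace Groth.Agent.GeomIrred

variable (k : Type u) [Field k] (S : Type u) [CommRing S] [Algebra k S]

/-- The base changes of `Spec S` are the spectra of tensor products. -/
def bcsHomeo (L : Type u) [Field L] [Algebra k L] :
    ↥(bcs (Spec.map (CommRingCat.ofHom (algebraMap k S))) L) ≃ₜ PrimeSpectrum (L ⊗[k] S) :=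
  (pullbackSpecIso k S L).hom.homeomorph.trans
    (PrimeSpectrum.homeomorphOfRingEquiv (Algebra.TensorProduct.comm k S L).toRingEquiv)

theorem geometricallyIrreducible_iff_tensor :
    GeometricallyIrreducible (Spec.map (CommRingCat.ofHom (algebraMap k S))) ↔
      ∀ (L : Type u) [Field L] [Algebra k L], IrreducibleSpace (PrimeSpectrum (L ⊗[k] S)) := by
  refine ⟨fun h L _ _ => (bcsHomeo k S L).irreducibleSpace_iff.mp
    (pullback_of_geometrically h.geometrically_irreducibleSpace _ _), fun h => ⟨?_⟩⟩
  exact (geometrically_iff_of_commRing_of_isClosedUnderIsomorphisms (P := (IrreducibleSpace ·))).mpr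
    fun K _ _ => (bcsHomeo k S K).irreducibleSpace_iff.mpr (h K)

theorem geometricallyConnected_iff_tensor :
    GeometricallyConnected (Spec.map (CommRingCat.ofHom (algebraMap k S))) ↔
      ∀ (L : Type u) [Field L] [Algebra k L], ConnectedSpace (PrimeSpectrum (L ⊗[k] S)) := by
  refine ⟨fun h L _ _ => (bcsHomeo k S L).connectedSpace_iff.mp
    (pullback_of_geometrically h.geometrically_connectedSpace _ _), fun h => ⟨?_⟩⟩
  exact (geometrically_iff_of_commRing_of_isClosedUnderIsomorphisms (P := (ConnectedSpace ·))).mpr
    fun K _ _ => (bcsHomeo k S K).connectedSpace_iff.mpr (h K)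

variable {k S}

theorem isDomain_of_injective {A B : Type u} [CommRing A] [CommRing B] (j : A →+* B) (hj : Function.Injective j)
    (hB : IsDomain B) : IsDomain A :=
  hj.isDomain j

/-- Integrality over the algebraic closure gives geometric integrality. -/
theorem isDomain_tensor_of_algebraicClosure (h : IsDomain (AlgebraicClosure k ⊗[k] S)) (k' : Type u) [Field k']
    [Algebra k k'] : IsDomain (k' ⊗[k] S) := by
  let K := AlgebraicClosure k
  let Ω := AlgebraicClosure k'
  let σ : K →ₐ[k] Ω := IsAlgClosed.lift
  letI := σ.toRingHom.toAlgebra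
  haveI : IsScalarTower k K Ω := IsScalarTower.of_algebraMap_eq fun c => (σ.commutes c).symm
  haveI := isDomain_tensor (k := K) (A := K ⊗[k] S) (B := Ω)
  haveI : IsDomain (Ω ⊗[k] S) :=
    (Algebra.TensorProduct.cancelBaseChange k K K Ω S).symm.injective.isDomain
      (Algebra.TensorProduct.cancelBaseChange k K K Ω S).symm.toAlgHom.toRingHom
  exact isDomain_of_injective (Algebra.TensorProduct.map (IsScalarTower.toAlgHom k k' Ω) (AlgHom.id k S)).toRingHom
    (Module.Flat.rTensor_preserves_injective_linearMap (M := S) (IsScalarTower.toAlgHom k k' Ω).toLinearMap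
      (algebraMap k' Ω).injective) ‹_›

theorem isDomain_tensor_algebraic {K : Type u} [Field K] [Algebra k K] [Algebra.IsAlgebraic k K] [Nontrivial S]
    (h : ∀ L : IntermediateField k K, FiniteDimensional k L → IsDomain (S ⊗[k] L)) : IsDomain (S ⊗[k] K) := by
  haveI : Nontrivial (S ⊗[k] K) :=
    (Algebra.TensorProduct.includeLeft_injective (S := k) (A := S) (B := K) (algebraMap k K).injective).nontrivial
  refine @NoZeroDivisors.to_isDomain _ _ _ ⟨fun {z w} hzw => ?_⟩
  obtain ⟨L₁, h₁, z', rfl⟩ := exists_finite_mem_range z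
  obtain ⟨L₂, h₂, w', rfl⟩ := exists_finite_mem_range w
  let M := L₁ ⊔ L₂
  haveI : IsDomain (S ⊗[k] M) := h M inferInstance
  let j : S ⊗[k] M →ₐ[k] S ⊗[k] K := Algebra.TensorProduct.map (AlgHom.id k S) M.val
  have hj : Function.Injective j :=
    Module.Flat.lTensor_preserves_injective_linearMap (M := S) M.val.toLinearMap Subtype.val_injective
  have hz : ∀ (L : IntermediateField k K) (hL : L ≤ M) (y : S ⊗[k] L),
      Algebra.TensorProduct.map (AlgHom.id k S) L.val y =
        j (Algebra.TensorProduct.map (AlgHom.id k S) (IntermediateField.inclusion hL) y) := by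
    intro L hL y
    induction y with
    | zero => simp
    | tmul r c => rfl
    | add p q hp hq => simp only [map_add, hp, hq]
  simp only [AlgHom.toRingHom_eq_coe, RingHom.coe_coe] at hzw ⊢
  rw [hz L₁ le_sup_left, hz L₂ le_sup_right] at hzw ⊢
  rw [← map_mul, map_eq_zero_iff j hj] at hzw
  haveI : NoZeroDivisors (S ⊗[k] M) := @IsDomain.to_noZeroDivisors (S ⊗[k] M) _ (h M inferInstance)
  rcases mul_eq_zero.mp hzw with h0 | h0 <;> simp [h0]

end Groth.Agent.GeomIrred
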