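import Mathlib
import Groth.Agent.GeomIrred.Connected

/-! Criteria for geometric irreducibility in terms of residue fields. -/

set_option autoImplicit false
universe u

open CategoryTheory CategoryTheory.Limits AlgebraicGeometry TensorProduct Polynomial

noncomputable section

namespace Groth.Agent.GeomIrred

variable {k : Type u} [Field k]

theorem irreducibleSpace_of_injective {A B : Type u} [CommRing A] [CommRing B] (j : A →+* B)
    (hj : Function.Injective j) (hB : IrreducibleSpace (PrimeSpectrum B)) :
    IrreducibleSpace (PrimeSpectrum A) := by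
  haveI := PrimeSpectrum.irreducibleSpace_iff_isPrime_nilradical.mp hB
  rw [PrimeSpectrum.irreducibleSpace_iff_isPrime_nilradical]
  have h : nilradical A = (nilradical B).comap j := by
    ext x
    rw [Ideal.mem_comap, mem_nilradical, mem_nilradical]
    exact ⟨fun hx => hx.map j, fun ⟨n, hn⟩ => ⟨n, hj (by rw [map_pow, map_zero]; exact hn)⟩⟩
  rw [h]
  exact Ideal.IsPrime.comap _

/-- If `k(α) ⊗ K` is irreducible for a separable `α ∈ K` then `α ∈ k`. -/
theorem mem_range_of_irreducible_tensor {K : Type u} [Field K] [Algebra k K] {α : K} (hs : IsSeparable k α)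
    (h : ∀ (L : Type u) [Field L] [Algebra k L] [FiniteDimensional k L], (L →ₐ[k] K) →
      IrreducibleSpace (PrimeSpectrum (K ⊗[k] L))) :
    α ∈ Set.range (algebraMap k K) := by
  have hint : IsIntegral k α := hs.isIntegral
  have hirr := minpoly.irreducible hint
  haveI := Fact.mk hirr
  let L := AdjoinRoot (minpoly k α)
  haveI : FiniteDimensional k L := (AdjoinRoot.powerBasis hirr.ne_zero).finite
  let τ : L →ₐ[k] K := AdjoinRoot.liftAlgHom (minpoly k α) (Algebra.ofId k K) α (by
    simpa [Polynomial.aeval_def] using minpoly.aeval k α)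
  haveI hP := PrimeSpectrum.irreducibleSpace_iff_isPrime_nilradical.mp (h L τ)
  let x : K ⊗[k] L := α ⊗ₜ 1 - 1 ⊗ₜ AdjoinRoot.root (minpoly k α)
  let Φ : K ⊗[k] L →ₐ[k] K := Algebra.TensorProduct.lift (AlgHom.id k K) τ fun _ _ => Commute.all _ _
  haveI : IsArtinianRing (K ⊗[k] L) := isArtinian_of_tower K inferInstance
  have hτ : τ (AdjoinRoot.root (minpoly k α)) = α := AdjoinRoot.liftAlgHom_root ..
  have hx0 : Φ x = 0 := by simp [x, Φ, hτ]
  have hnil : IsNilpotent x := by
    rw [← mem_nilradical]
    have hle : nilradical (K ⊗[k] L) ≤ RingHom.ker Φ := fun y hy => ((mem_nilradical.mp hy).map Φ).eq_zero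
    have hne : RingHom.ker Φ ≠ ⊤ := RingHom.ker_ne_top Φ
    haveI := IsArtinianRing.isMaximal_of_isPrime (nilradical (K ⊗[k] L))
    rw [(inferInstance : (nilradical (K ⊗[k] L)).IsMaximal).eq_of_le hne hle]
    exact hx0
  let Ω := AlgebraicClosure K
  have hroot : ∀ r ∈ (minpoly k α).rootSet Ω, r = algebraMap K Ω α := by
    intro r hr
    have hr' := (Polynomial.mem_rootSet.mp hr).2
    let σ : L →ₐ[k] Ω := AdjoinRoot.liftAlgHom (minpoly k α) (Algebra.ofId k Ω) r (by
      simpa [Polynomial.aeval_def] using hr')
    let Ψ : K ⊗[k] L →ₐ[k] Ω :=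
      Algebra.TensorProduct.lift (IsScalarTower.toAlgHom k K Ω) σ fun _ _ => Commute.all _ _
    have h0 : Ψ x = 0 := (hnil.map Ψ).eq_zero
    have hσ : σ (AdjoinRoot.root (minpoly k α)) = r := AdjoinRoot.liftAlgHom_root ..
    simp [x, Ψ, hσ, sub_eq_zero] at h0
    exact h0.symm
  have hcard := Polynomial.card_rootSet_eq_natDegree (K := Ω) hs (IsAlgClosed.splits _)
  haveI : Subsingleton ((minpoly k α).rootSet Ω) :=
    ⟨fun a b => Subtype.ext ((hroot a a.2).trans (hroot b b.2).symm)⟩
  have hdeg : (minpoly k α).natDegree ≤ 1 := hcard ▸ Fintype.card_le_one_iff_subsingleton.mpr inferInstance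
  exact (minpoly.natDegree_eq_one_iff.mp (le_antisymm hdeg (minpoly.natDegree_pos hint)))

variable {X : Scheme.{u}} (f : X ⟶ Spec (CommRingCat.of k))

/-- An irreducible scheme with dense set of points without separable algebraic elements in the residue field
is geometrically irreducible. -/
theorem geometricallyIrreducible_of_points [IrreducibleSpace X]
    (hD : ∀ U : Set X, IsOpen U → U.Nonempty → ∃ x ∈ U, ∃ φ : k →+* X.residueField x,
      Spec.map (CommRingCat.ofHom φ) = X.fromSpecResidueField x ≫ f ∧
        (letI := φ.toAlgebra; separableClosure k (X.residueField x) = ⊥)) :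
    GeometricallyIrreducible f := by
  refine geometricallyIrreducible_of_finite_separable f fun L _ _ _ _ => ?_
  let p := pullback.fst f (Spec.map (CommRingCat.ofHom (algebraMap k L)))
  haveI := surjective_specMap_field k L
  haveI : Nonempty (bcs f L) :=
    ⟨((inferInstance : Surjective p).surj (Classical.arbitrary X)).choose⟩
  haveI : PreirreducibleSpace (bcs f L) := by
    refine ⟨fun U V hU hV hU' hV' => ?_⟩
    rw [Set.univ_inter] at hU' hV' ⊢
    obtain ⟨x, ⟨hxU, hxV⟩, φ, hφ, hx⟩ := hD (p '' U ∩ p '' V) ((p.isOpenMap _ hU).inter (p.isOpenMap _ hV))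
      (nonempty_preirreducible_inter (p.isOpenMap _ hU) (p.isOpenMap _ hV) (hU'.image _) (hV'.image _))
    obtain ⟨a, ha, hax⟩ := hxU
    obtain ⟨b, hb, hbx⟩ := hxV
    exact ⟨a, ha, preimage_singleton_subsingleton f x φ hφ hx L hbx hax ▸ hb⟩
  exact ⟨inferInstance⟩

theorem irreducibleSpace_fibre (x : X) (φ : k →+* X.residueField x)
    (hφ : Spec.map (CommRingCat.ofHom φ) = X.fromSpecResidueField x ≫ f)
    {W : Scheme.{u}} (g : W ⟶ Spec (CommRingCat.of k)) [IrreducibleSpace ↥(pullback f g)]
    (hgen : pullback.fst f g (genericPoint ↥(pullback f g)) = x) :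
    IrreducibleSpace ↥(pullback (Spec.map (CommRingCat.ofHom φ)) g) := by
  let r : pullback (Spec.map (CommRingCat.ofHom φ)) g ⟶ pullback f g :=
    pullback.map _ _ _ _ (X.fromSpecResidueField x) (𝟙 _) (𝟙 _) (by rw [Category.comp_id, ← hφ]) (by simp)
  have hr : Set.range r = pullback.fst f g ⁻¹' {x} := by
    rw [Scheme.Pullback.range_map, Scheme.range_fromSpecResidueField]
    ext z
    simp
  haveI : IsPreimmersion r := by
    have h : r = (pullback.congrHom hφ rfl).hom ≫ (pullbackRightPullbackFstIso f g (X.fromSpecResidueField x)).inv ≫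
        pullback.snd (X.fromSpecResidueField x) (pullback.fst f g) := by
      apply pullback.hom_ext
      · simp only [r, Category.assoc, pullback.lift_fst, ← pullback.condition,
          pullbackRightPullbackFstIso_inv_fst_assoc, pullback.congrHom_hom, pullback.lift_fst_assoc,
          Category.comp_id]
      · simp only [r, Category.assoc, pullback.lift_snd, Category.comp_id,
          pullbackRightPullbackFstIso_inv_snd_snd, pullback.congrHom_hom]
    rw [h]; infer_instance
  have hirr : IsIrreducible (Set.range r) := by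
    have hω : genericPoint ↥(pullback f g) ∈ Set.range r := hr ▸ hgen
    refine ⟨⟨_, hω⟩, fun U V hU hV hU' hV' => ⟨genericPoint ↥(pullback f g), hω, ?_, ?_⟩⟩
    · exact (genericPoint_spec ↥(pullback f g)).mem_open_set_iff hU |>.mpr ⟨_, trivial, hU'.choose_spec.2⟩
    · exact (genericPoint_spec ↥(pullback f g)).mem_open_set_iff hV |>.mpr ⟨_, trivial, hV'.choose_spec.2⟩
  exact r.isEmbedding.toHomeomorph.irreducibleSpace_iff.mpr (isIrreducible_iff_irreducibleSpace.mp hirr)

theorem fst_genericPoint [IrreducibleSpace X] {W : Scheme.{u}} (g : W ⟶ Spec (CommRingCat.of k)) [Surjective g]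
    [IrreducibleSpace ↥(pullback f g)] :
    pullback.fst f g (genericPoint ↥(pullback f g)) = genericPoint X := by
  have h : IsGenericPoint (pullback.fst f g (genericPoint ↥(pullback f g))) (Set.univ : Set X) := by
    have := (genericPoint_spec ↥(pullback f g)).image (pullback.fst f g).continuous
    rwa [Set.image_univ, Set.range_eq_univ.mpr (pullback.fst f g).surjective, closure_univ] at this
  exact h.eq (genericPoint_spec X)

/-- Separable elements of the function field of a geometrically irreducible scheme lie in the ground field. -/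
theorem mem_range_of_geometricallyIrreducible [IrreducibleSpace X] [hf : GeometricallyIrreducible f]
    (φ : k →+* X.residueField (genericPoint X))
    (hφ : Spec.map (CommRingCat.ofHom φ) = X.fromSpecResidueField (genericPoint X) ≫ f)
    (a : X.residueField (genericPoint X)) (ha : letI := φ.toAlgebra; IsSeparable k a) : a ∈ Set.range φ := by
  letI := φ.toAlgebra
  refine mem_range_of_irreducible_tensor ha fun L _ _ _ _ => ?_
  haveI := surjective_specMap_field k L
  haveI : IrreducibleSpace ↥(pullback f (Spec.map (CommRingCat.ofHom (algebraMap k L)))) :=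
    pullback_of_geometrically hf.geometrically_irreducibleSpace _ _
  haveI := irreducibleSpace_fibre f (genericPoint X) φ hφ (Spec.map (CommRingCat.ofHom (algebraMap k L)))
    (fst_genericPoint f _)
  exact (pullbackSpecIso k (X.residueField (genericPoint X)) L).hom.homeomorph.irreducibleSpace_iff.mp ‹_›

end Groth.Agent.GeomIrred
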